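import Cfsg.Agent.Lib.SL2Tori.Dicyclic
import Cfsg.Agent.Lib.SpecLin.SLTwoTrace

/-!
Tori of `SL_2` over a field: commutants, the torus data and its consequences.
-/

set_option autoImplicit false

namespace CfsgLib.SL2Tori

open Matrix
open CfsgLib.SpecLin

variable {F : Type*} [Field F]

local notation "SL2" => Matrix.SpecialLinearGroup (Fin 2) F
local notation "M2" => Matrix (Fin 2) (Fin 2) F

theorem commutant {g h : M2} (hg : ∀ s : F, g ≠ s • 1) (hc : h * g = g * h) :
    ∃ x y : F, h = x • 1 + y • g := by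
  have e := fun i j => congrFun (congrFun hc i) j
  have e00 := e 0 0; have e01 := e 0 1; have e10 := e 1 0; have e11 := e 1 1
  simp only [Matrix.mul_apply, Fin.sum_univ_two] at e00 e01 e10 e11
  have key : ∀ y : F, h 0 1 = y * g 0 1 → h 1 0 = y * g 1 0 →
      h 0 0 - h 1 1 = y * (g 0 0 - g 1 1) → h = (h 0 0 - y * g 0 0) • 1 + y • g := by
    intro y h1 h2 h3
    ext i j
    fin_cases i <;> fin_cases j <;> simp [h1, h2]
    linear_combination -h3
  by_cases h01 : g 0 1 = 0
  · by_cases h10 : g 1 0 = 0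
    · have hd : g 0 0 - g 1 1 ≠ 0 := fun hd => hg (g 0 0) <| by
        ext i j
        fin_cases i <;> fin_cases j <;> simp [h01, h10, sub_eq_zero.1 hd]
      refine ⟨_, _, key ((h 0 0 - h 1 1) / (g 0 0 - g 1 1)) ?_ ?_ ?_⟩
      · rw [h01, mul_zero]
        refine (mul_eq_zero.1 (show h 0 1 * (g 1 1 - g 0 0) = 0 by
          rw [h01] at e01; linear_combination e01)).resolve_right fun h => hd (by linear_combination -h)
      · rw [h10, mul_zero]
        refine (mul_eq_zero.1 (show h 1 0 * (g 0 0 - g 1 1) = 0 by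
          rw [h10] at e10; linear_combination e10)).resolve_right hd
      · rw [div_mul_cancel₀ _ hd]
    · refine ⟨_, _, key (h 1 0 / g 1 0) ?_ (div_mul_cancel₀ _ h10).symm ?_⟩
      · field_simp
        linear_combination e00
      · field_simp
        linear_combination -e10
  · refine ⟨_, _, key (h 0 1 / g 0 1) (div_mul_cancel₀ _ h01).symm ?_ ?_⟩
    · field_simp
      linear_combination -e00
    · field_simp
      linear_combination e01

theorem trace_comb (x y : F) (g : M2) : (x • 1 + y • g).trace = 2 * x + y * g.trace := by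
  simp [Matrix.trace_fin_two]; ring

theorem det_comb (x y : F) {g : M2} (hg : g.det = 1) :
    (x • 1 + y • g).det = x ^ 2 + x * y * g.trace + y ^ 2 := by
  rw [Matrix.det_fin_two] at hg
  simp [Matrix.det_fin_two, Matrix.trace_fin_two]
  linear_combination y ^ 2 * hg

theorem coe_inv_eq (c : SL2) : (↑(c⁻¹) : M2) = (c : M2).trace • 1 - (c : M2) := by
  rw [Matrix.SpecialLinearGroup.coe_inv, Matrix.adjugate_fin_two]
  ext i j
  fin_cases i <;> fin_cases j <;> simp [Matrix.trace_fin_two]

theorem trace_conj (n g : SL2) : ((n * g * n⁻¹ : SL2) : M2).trace = (g : M2).trace := by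
  rw [Matrix.SpecialLinearGroup.coe_mul, Matrix.SpecialLinearGroup.coe_mul, Matrix.trace_mul_cycle,
    ← Matrix.SpecialLinearGroup.coe_mul, inv_mul_cancel, Matrix.SpecialLinearGroup.coe_one, one_mul]

theorem coe_comm {g h : SL2} (e : h * g = g * h) : (h : M2) * g = (g : M2) * h := by
  rw [← Matrix.SpecialLinearGroup.coe_mul, e, Matrix.SpecialLinearGroup.coe_mul]

theorem scalar_cases {g : SL2} {s : F} (h : (g : M2) = s • 1) :
    (g : M2) = 1 ∨ (g : M2) = -1 := by
  have hd : ((g : M2)).det = 1 := g.prop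
  rw [h, Matrix.det_smul, Matrix.det_one, mul_one, Fintype.card_fin, sq_eq_one_iff] at hd
  rcases hd with rfl | rfl <;> simp [h]

theorem eq_one_of_coe {g : SL2} (h : (g : M2) = 1) : g = 1 := Subtype.ext h

theorem nonscalar_iff {g : SL2} :
    (∀ s : F, (g : M2) ≠ s • 1) ↔ (g : M2) ≠ 1 ∧ (g : M2) ≠ -1 := by
  constructor
  · exact fun h => ⟨fun e => h 1 (by simp [e]), fun e => h (-1) (by simp [e])⟩
  · exact fun h s e => (scalar_cases e).elim h.1 h.2

/-- A square root of one in `SL_2` is `±1` in odd characteristic. -/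
theorem sq_eq_one_cases (h2 : (2 : F) ≠ 0) {g : SL2} (h : g ^ 2 = 1) :
    (g : M2) = 1 ∨ (g : M2) = -1 := by
  have hi : g⁻¹ = g := by rw [inv_eq_iff_mul_eq_one, ← pow_two, h]
  have e := coe_inv_eq g
  rw [hi] at e
  refine scalar_cases (s := (g : M2).trace / 2) ?_
  have e2 : (2 : F) • (g : M2) = (g : M2).trace • 1 := by rw [two_smul]; nth_rw 1 [e]; simp
  rw [div_eq_inv_mul, ← smul_smul, ← e2, smul_smul, inv_mul_cancel₀ h2, one_smul]

/-- Commuting elements with the same trace are equal or mutually inverse. -/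
theorem eq_or_eq_inv_of_trace_eq (h2 : (2 : F) ≠ 0) {c M : SL2} (hns : ∀ s : F, (c : M2) ≠ s • 1)
    (ht : (c : M2).trace ^ 2 ≠ 4) (hc : M * c = c * M) (htr : (M : M2).trace = (c : M2).trace) :
    M = c ∨ M = c⁻¹ := by
  obtain ⟨x, y, hM⟩ := commutant hns (coe_comm hc)
  set t := (c : M2).trace with ht'
  have hdet : x ^ 2 + x * y * t + y ^ 2 = 1 := by
    rw [← det_comb x y c.prop, ← hM]; exact M.prop
  rw [hM, trace_comb, ← ht'] at htr
  have hx : x = t * (1 - y) / 2 := by field_simp; linear_combination htr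
  have hy : y ^ 2 = 1 := by
    subst hx
    field_simp at hdet
    have h4 : (y ^ 2 - 1) * (t ^ 2 - 4) = 0 := by linear_combination -hdet
    exact sub_eq_zero.1 ((mul_eq_zero.1 h4).resolve_right (sub_ne_zero.2 ht))
  rcases sq_eq_one_iff.1 hy with rfl | rfl
  · left
    refine Subtype.ext ?_
    rw [hM, hx]; simp
  · right
    refine Subtype.ext ?_
    rw [hM, coe_inv_eq, hx, ← ht', show t * (1 - -1) / 2 = t by field_simp; ring]
    simp [sub_eq_add_neg]

/-- Non-scalar elements of a commutant have the same commutant. -/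
theorem comm_trans {g x h : M2} (hg : ∀ s : F, g ≠ s • 1) (hx : ∀ s : F, x ≠ s • 1)
    (hxg : x * g = g * x) (hhx : h * x = x * h) : h * g = g * h := by
  obtain ⟨a, b, rfl⟩ := commutant hg hxg
  have hb : b ≠ 0 := fun e => hx a (by simp [e])
  rw [mul_add, add_mul, Matrix.mul_smul, Matrix.mul_smul, Matrix.smul_mul, Matrix.smul_mul,
    mul_one, one_mul, add_right_inj] at hhx
  exact smul_right_injective _ hb hhx

/-- Data of a maximal torus of order `2h` generated by `c`, inverted by an element squaring to `-1`. -/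
structure TorusGen (c : Matrix.SpecialLinearGroup (Fin 2) F) (h : ℕ) : Prop where
  two_le : 2 ≤ h
  order : orderOf c = 2 * h
  two_ne : (2 : F) ≠ 0
  trace_ne : (c : Matrix (Fin 2) (Fin 2) F).trace ^ 2 ≠ 4
  cent : Subgroup.centralizer ({c} : Set (Matrix.SpecialLinearGroup (Fin 2) F)) ≤ Subgroup.zpowers c
  inverter : ∃ w, w * c * w⁻¹ = c⁻¹ ∧ w ^ 2 = c ^ h

namespace TorusGen

variable {c : Matrix.SpecialLinearGroup (Fin 2) F} {h : ℕ} (T : TorusGen c h)
include T

theorem nonscalar : ∀ s : F, (c : M2) ≠ s • 1 := by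
  intro s e
  apply T.trace_ne
  have hd : ((c : M2)).det = 1 := c.prop
  rw [e, Matrix.det_smul, Matrix.det_one, mul_one, Fintype.card_fin] at hd
  rw [e, Matrix.trace_smul, Matrix.trace_one, Fintype.card_fin, smul_eq_mul]
  push_cast
  linear_combination (4 : F) * hd

theorem pow_h : ((c ^ h : SL2) : M2) = -1 := by
  have h1 : (c ^ h) ^ 2 = 1 := by rw [← pow_mul, mul_comm, ← T.order, pow_orderOf_eq_one]
  refine (sq_eq_one_cases T.two_ne h1).resolve_left fun e => ?_
  have := orderOf_le_of_pow_eq_one (by have := T.two_le; omega) (eq_one_of_coe e)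
  have := T.order
  have := T.two_le
  omega

theorem centralizer_eq : Subgroup.centralizer ({c} : Set SL2) = Subgroup.zpowers c := by
  refine le_antisymm T.cent (Subgroup.zpowers_le.2 ?_)
  rw [Subgroup.mem_centralizer_singleton_iff]

theorem comm_mem {x : SL2} (hx : x * c = c * x) : x ∈ Subgroup.zpowers c :=
  T.cent (Subgroup.mem_centralizer_singleton_iff.2 hx)

omit T in
theorem commute_of_mem {x : SL2} (hx : x ∈ Subgroup.zpowers c) : x * c = c * x := by
  obtain ⟨i, rfl⟩ := Subgroup.mem_zpowers_iff.1 hx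
  exact (Commute.zpow_self c i).eq

theorem centralizer_set : Subgroup.centralizer ((Subgroup.zpowers c : Subgroup SL2) : Set SL2) =
    Subgroup.zpowers c := by
  refine le_antisymm (fun x hx => T.comm_mem ?_) (fun x hx => ?_)
  · exact (Subgroup.mem_centralizer_iff.1 hx c (Subgroup.mem_zpowers c)).symm
  · refine Subgroup.mem_centralizer_iff.2 fun y hy => ?_
    obtain ⟨i, rfl⟩ := Subgroup.mem_zpowers_iff.1 hx
    obtain ⟨j, rfl⟩ := Subgroup.mem_zpowers_iff.1 hy
    exact (Commute.zpow_zpow_self c j i).eq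

theorem centralizer_elt {x : SL2} (hx : x ∈ Subgroup.zpowers c) (h1 : (x : M2) ≠ 1)
    (h2 : (x : M2) ≠ -1) : Subgroup.centralizer ({x} : Set SL2) = Subgroup.zpowers c := by
  refine le_antisymm (fun y hy => T.comm_mem (Subtype.ext ?_)) (fun y hy => ?_)
  · rw [Matrix.SpecialLinearGroup.coe_mul, Matrix.SpecialLinearGroup.coe_mul]
    exact comm_trans T.nonscalar (nonscalar_iff.2 ⟨h1, h2⟩) (coe_comm (commute_of_mem hx))
      (coe_comm (Subgroup.mem_centralizer_singleton_iff.1 hy))
  · rw [Subgroup.mem_centralizer_singleton_iff]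
    obtain ⟨i, rfl⟩ := Subgroup.mem_zpowers_iff.1 hx
    obtain ⟨j, rfl⟩ := Subgroup.mem_zpowers_iff.1 hy
    exact (Commute.zpow_zpow_self c j i).eq

theorem conj_cases {n : SL2} (hn : n ∈ Subgroup.normalizer (Subgroup.zpowers c : Set SL2)) :
    n * c * n⁻¹ = c ∨ n * c * n⁻¹ = c⁻¹ := by
  have h1 := (Subgroup.mem_normalizer_iff.1 hn c).1 (Subgroup.mem_zpowers c)
  exact eq_or_eq_inv_of_trace_eq T.two_ne T.nonscalar T.trace_ne (commute_of_mem h1) (trace_conj n c)

theorem mem_normalizer {n : SL2} (hn : n * c * n⁻¹ = c ∨ n * c * n⁻¹ = c⁻¹) :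
    n ∈ Subgroup.normalizer (Subgroup.zpowers c : Set SL2) := by
  refine Subgroup.mem_normalizer_iff.2 fun x => ⟨fun hx => ?_, fun hx => ?_⟩
  · obtain ⟨i, rfl⟩ := Subgroup.mem_zpowers_iff.1 hx
    rw [← conj_zpow]
    rcases hn with e | e <;> rw [e]
    · exact Subgroup.zpow_mem_zpowers _ _
    · rw [_root_.inv_zpow']; exact Subgroup.zpow_mem_zpowers _ _
  · obtain ⟨i, hi⟩ := Subgroup.mem_zpowers_iff.1 hx
    have h2 : n⁻¹ * c * n = c ∨ n⁻¹ * c * n = c⁻¹ := by
      rcases hn with e | e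
      · left; nth_rw 1 [← e]; group
      · right
        have e2 := congrArg (·⁻¹) e
        simp only [inv_inv, _root_.mul_inv_rev] at e2
        nth_rw 1 [← e2]; group
    have hx' : x = n⁻¹ * c ^ i * (n⁻¹)⁻¹ := by rw [hi]; group
    rw [hx', ← conj_zpow, inv_inv]
    rcases h2 with e | e <;> rw [e]
    · exact Subgroup.zpow_mem_zpowers _ _
    · rw [_root_.inv_zpow']; exact Subgroup.zpow_mem_zpowers _ _

theorem inverter_notMem {w : SL2} (hw : w * c * w⁻¹ = c⁻¹) : w ∉ Subgroup.zpowers c := by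
  intro hm
  rw [commute_of_mem hm, mul_inv_cancel_right] at hw
  have h1 : c ^ 2 = 1 := by rw [pow_two]; nth_rw 2 [hw]; group
  have := orderOf_le_of_pow_eq_one (by norm_num) h1
  have := T.order
  have := T.two_le
  omega

theorem normalizer_cases {w n : SL2} (hw : w * c * w⁻¹ = c⁻¹)
    (hn : n ∈ Subgroup.normalizer (Subgroup.zpowers c : Set SL2)) :
    n ∈ Subgroup.zpowers c ∨ w⁻¹ * n ∈ Subgroup.zpowers c := by
  rcases T.conj_cases hn with e | e
  · exact Or.inl (T.comm_mem (mul_inv_eq_iff_eq_mul.1 e))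
  · refine Or.inr (T.comm_mem ?_)
    rw [mul_assoc, mul_inv_eq_iff_eq_mul.1 e, ← hw]
    group

theorem normalizer_card :
    Nat.card (Subgroup.normalizer (Subgroup.zpowers c : Set SL2)) = 4 * h ∧
      Nat.card (ConjClasses (Subgroup.normalizer (Subgroup.zpowers c : Set SL2))) = h + 3 := by
  obtain ⟨w, hw, hw2⟩ := T.inverter
  let c' : Subgroup.normalizer (Subgroup.zpowers c : Set SL2) :=
    ⟨c, T.mem_normalizer (Or.inl (by group))⟩
  let w' : Subgroup.normalizer (Subgroup.zpowers c : Set SL2) := ⟨w, T.mem_normalizer (Or.inr hw)⟩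
  have hz : ∀ x : Subgroup.normalizer (Subgroup.zpowers c : Set SL2),
      x ∈ Subgroup.zpowers c' ↔ (x : SL2) ∈ Subgroup.zpowers c := fun x => by
    simp only [Subgroup.mem_zpowers_iff, Subtype.ext_iff, Subgroup.coe_zpow, c']
  refine dicyclic_card (c := c') (w := w') (by have := T.two_le; omega) ?_ ?_ ?_ ?_ ?_
  · rw [← T.order, Subgroup.orderOf_mk]
  · exact Subtype.ext (by simpa [c', w'] using hw)
  · exact Subtype.ext (by simpa [c', w'] using hw2)
  · exact fun hm => T.inverter_notMem hw ((hz _).1 hm)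
  · exact fun x => (T.normalizer_cases hw x.2).imp (hz _).2 (hz _).2

theorem sq_outside {n : SL2} (hn : n ∈ Subgroup.normalizer (Subgroup.zpowers c : Set SL2))
    (hout : n ∉ Subgroup.zpowers c) : (n : M2) * n = -1 := by
  obtain ⟨w, hw, hw2⟩ := T.inverter
  obtain hm := (T.normalizer_cases hw hn).resolve_left hout
  obtain ⟨i, hi⟩ := Subgroup.mem_zpowers_iff.1 hm
  have hn' : n = w * c ^ i := by rw [hi]; group
  have h1 : w * c ^ i * w⁻¹ = (c ^ i)⁻¹ := by rw [← conj_zpow, hw, _root_.inv_zpow]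
  have h2 : n * n = c ^ h := by
    calc n * n = (w * c ^ i * w⁻¹) * w ^ 2 * c ^ i := by rw [hn', pow_two]; group
      _ = (c ^ i)⁻¹ * c ^ h * c ^ i := by rw [h1, hw2]
      _ = c ^ h := by group
  rw [← T.pow_h, ← h2, Matrix.SpecialLinearGroup.coe_mul]

theorem card_torus : Nat.card (Subgroup.zpowers c) = 2 * h := by rw [Nat.card_zpowers, T.order]

end TorusGen

end CfsgLib.SL2Tori
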