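import Cfsg.Agent.Lib.SL2Tori.Borel
import Cfsg.Agent.Lib.Characters.Induction

/-!
Functions induced from linear characters of the Borel subgroup of `SL_2`.
-/

set_option autoImplicit false

namespace CfsgLib.SL2Tori

open Matrix
open scoped ComplexConjugate

variable {F : Type*} [Field F] [Fintype F] [DecidableEq F]

local notation "SL2" => Matrix.SpecialLinearGroup (Fin 2) F
local notation "M2" => Matrix (Fin 2) (Fin 2) F

/-- The linear character `b ↦ α(b₁₁)` of the Borel subgroup. -/
noncomputable abbrev borelChar (α : MulChar F ℂ) : borel F → ℂ := fun b => α (((b : SL2) : M2) 0 0)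

omit [Fintype F] [DecidableEq F] in
theorem borel_mul_zero_zero (x y : borel F) :
    (((x * y : borel F) : SL2) : M2) 0 0 = ((x : SL2) : M2) 0 0 * ((y : SL2) : M2) 0 0 := by
  rw [Subgroup.coe_mul, Matrix.SpecialLinearGroup.coe_mul, Matrix.mul_apply, Fin.sum_univ_two,
    mem_borel.1 y.2, mul_zero, add_zero]

omit [Fintype F] [DecidableEq F] in
theorem isClassFunction_borelChar (α : MulChar F ℂ) : Cfsg.IsClassFunction (borel F) (borelChar α) := by
  intro g x
  show α _ = α _
  congr 1
  have h1 : ((((x * g * x⁻¹) * x : borel F)) : SL2).1 0 0 =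
      ((x * g : borel F) : SL2).1 0 0 := by rw [inv_mul_cancel_right]
  rw [borel_mul_zero_zero (x * g * x⁻¹) x, borel_mul_zero_zero x g, mul_comm _ (((g : SL2) : M2) 0 0)] at h1
  exact mul_right_cancel₀ (borel_apply_zero_ne x) h1

/-- Representatives of the cosets of the Borel subgroup, indexed by the projective line. -/
def lineRep : Option F → Matrix.SpecialLinearGroup (Fin 2) F
  | none => 1
  | some u => ⟨!![u, -1; 1, 0], by simp [Matrix.det_fin_two]⟩

omit [Fintype F] [DecidableEq F] in
theorem lineRep_conj (g : SL2) (u : F) :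
    (((lineRep (some u))⁻¹ * g * lineRep (some u) : SL2) : M2) 1 0 =
        (g : M2) 1 0 * u ^ 2 + ((g : M2) 1 1 - (g : M2) 0 0) * u - (g : M2) 0 1 ∧
      (((lineRep (some u))⁻¹ * g * lineRep (some u) : SL2) : M2) 0 0 =
        (g : M2) 1 0 * u + (g : M2) 1 1 := by
  rw [Matrix.SpecialLinearGroup.coe_mul, Matrix.SpecialLinearGroup.coe_mul,
    Matrix.SpecialLinearGroup.coe_inv, Matrix.adjugate_fin_two]
  constructor <;> simp [lineRep, Matrix.mul_apply, Fin.sum_univ_two, Matrix.vecMul, dotProduct] <;> ring

omit [Fintype F] [DecidableEq F] in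
theorem mk_lineRep_bijective :
    Function.Bijective (fun o : Option F => (QuotientGroup.mk (lineRep o) : SL2 ⧸ borel F)) := by
  constructor
  · rintro (_ | u) (_ | v) e
    · rfl
    · have := mem_borel.1 (QuotientGroup.eq.1 e)
      rw [show lineRep (F := F) none = 1 from rfl, inv_one, one_mul] at this
      simp [lineRep] at this
    · have := mem_borel.1 (QuotientGroup.eq.1 e.symm)
      rw [show lineRep (F := F) none = 1 from rfl, inv_one, one_mul] at this
      simp [lineRep] at this
    · have := mem_borel.1 (QuotientGroup.eq.1 e)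
      rw [Matrix.SpecialLinearGroup.coe_mul, Matrix.SpecialLinearGroup.coe_inv,
        Matrix.adjugate_fin_two] at this
      simp [lineRep, Matrix.mul_apply, Fin.sum_univ_two] at this
      exact congrArg some (by linear_combination this)
  · intro x
    induction x using QuotientGroup.induction_on with
    | _ g =>
      by_cases hc : (g : M2) 1 0 = 0
      · refine ⟨none, QuotientGroup.eq.2 (mem_borel.2 ?_)⟩
        simp [lineRep, hc]
      · refine ⟨some ((g : M2) 0 0 / (g : M2) 1 0), QuotientGroup.eq.2 (mem_borel.2 ?_)⟩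
        rw [Matrix.SpecialLinearGroup.coe_mul, Matrix.SpecialLinearGroup.coe_inv, Matrix.adjugate_fin_two]
        simp [lineRep, Matrix.mul_apply, Fin.sum_univ_two]
        field_simp
        ring

/-- The value of the induced function. -/
theorem indFun_borelChar_apply (α : MulChar F ℂ) (g : SL2) :
    Cfsg.indFun (borel F) (borelChar α) g =
      (if (g : M2) 1 0 = 0 then α ((g : M2) 0 0) else 0) +
        ∑ u : F, if (g : M2) 1 0 * u ^ 2 + ((g : M2) 1 1 - (g : M2) 0 0) * u - (g : M2) 0 1 = 0
          then α ((g : M2) 1 0 * u + (g : M2) 1 1) else 0 := by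
  classical
  have : Fintype (SL2 ⧸ borel F) := Fintype.ofFinite _
  rw [CfsgLib.Induction.indFun_eq_sum_quotient (borel F) (isClassFunction_borelChar α) g,
    ← Equiv.sum_comp (Equiv.ofBijective _ (mk_lineRep_bijective (F := F)))]
  have key : ∀ x : SL2, Cfsg.extendByZero (borel F) (borelChar α)
      ((QuotientGroup.mk x : SL2 ⧸ borel F).out⁻¹ * g * (QuotientGroup.mk x : SL2 ⧸ borel F).out) =
      Cfsg.extendByZero (borel F) (borelChar α) (x⁻¹ * g * x) := by
    intro x
    obtain ⟨b, hb⟩ := QuotientGroup.mk_out_eq_mul (borel F) x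
    rw [hb, ← CfsgLib.Induction.extendByZero_conj _ (isClassFunction_borelChar α) b]
    congr 1
    group
  have hval : ∀ x : SL2, Cfsg.extendByZero (borel F) (borelChar α) x =
      if (x : M2) 1 0 = 0 then α ((x : M2) 0 0) else 0 := by
    intro x
    split_ifs with h
    · rw [CfsgLib.Induction.extendByZero_mem _ _ (mem_borel.2 h)]
    · rw [CfsgLib.Induction.extendByZero_notMem _ _ (fun h' => h (mem_borel.1 h'))]
  simp only [Equiv.ofBijective_apply, key, hval, Fintype.sum_option]
  congr 1
  · simp [lineRep]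
  · refine Finset.sum_congr rfl fun u _ => ?_
    rw [(lineRep_conj g u).1, (lineRep_conj g u).2]

theorem sum_units_mulChar (χ : MulChar F ℂ) [Decidable (χ = 1)] :
    ∑ a : Fˣ, χ (a : F) = if χ = 1 then ((Fintype.card F : ℂ) - 1) else 0 := by
  classical
  have h := sum_hom_units (χ.toMonoidHom.comp (Units.coeHom F))
  have hiff : χ.toMonoidHom.comp (Units.coeHom F) = 1 ↔ χ = 1 := by
    constructor
    · intro e
      refine MulChar.ext fun a => ?_
      rw [MulChar.one_apply_coe]
      exact DFunLike.congr_fun e a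
    · rintro rfl
      ext a
      exact MulChar.one_apply_coe a
  have hs : ∑ a : Fˣ, χ (a : F) = ∑ a : Fˣ, (χ.toMonoidHom.comp (Units.coeHom F)) a := rfl
  rw [hs, h]
  simp only [hiff]
  split_ifs
  · rw [Fintype.card_units, Nat.cast_sub Fintype.card_pos, Nat.cast_one]
  · simp

/-- The Mackey formula for the Borel subgroup of `SL_2`. -/
theorem classInner_borelChar (α β : MulChar F ℂ) [Decidable (α = β)] [Decidable (α = β⁻¹)] :
    Cfsg.classInner (Cfsg.indFun (borel F) (borelChar α)) (Cfsg.indFun (borel F) (borelChar β)) =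
      (if α = β then 1 else 0) + (if α = β⁻¹ then 1 else 0) := by
  classical
  rw [CfsgLib.Induction.classInner_indFun (borel F) _ (CfsgLib.Induction.isClassFunction_indFun _ _)]
  unfold Cfsg.classInner
  rw [← Equiv.sum_comp (Equiv.ofBijective _ (bEl_bijective (F := F))), Fintype.sum_prod_type]
  have hinner : ∀ a : Fˣ, ∑ b : F, borelChar α (bEl a b) *
      conj (Cfsg.indFun (borel F) (borelChar β) (bEl a b : SL2)) =
      (Fintype.card F : ℂ) * ((α * β⁻¹) (a : F) + (α * β) (a : F)) := by
    intro a
    simp only [borelChar, indFun_borelChar_apply, bEl_coe, Matrix.of_apply, Matrix.cons_val',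
      Matrix.cons_val_zero, Matrix.cons_val_one, Matrix.cons_val_fin_one, zero_mul, zero_add, if_true,
      map_add, map_sum, apply_ite (conj : ℂ → ℂ), map_zero, mul_add, Finset.mul_sum, mul_ite, mul_zero,
      Finset.sum_add_distrib]
    congr 1
    · rw [Finset.sum_const, Finset.card_univ, nsmul_eq_mul, MulChar.mul_apply]
      congr 2
      exact MulChar.star_apply' β _
    · rw [Finset.sum_comm]
      simp only [sub_eq_zero, Finset.sum_ite_eq, Finset.mem_univ, if_true]
      rw [Finset.sum_const, Finset.card_univ, nsmul_eq_mul, MulChar.mul_apply]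
      congr 2
      rw [show conj (β ((a⁻¹ : Fˣ) : F)) = star (β ((a⁻¹ : Fˣ) : F)) from rfl, MulChar.star_apply',
        MulChar.inv_apply', Units.val_inv_eq_inv_val, inv_inv]
  simp only [Equiv.ofBijective_apply, hinner, ← Finset.mul_sum, Finset.sum_add_distrib, sum_units_mulChar]
  rw [card_borel, Nat.cast_mul, Nat.cast_sub Fintype.card_pos, Nat.cast_one]
  have e1 : α * β⁻¹ = 1 ↔ α = β := mul_inv_eq_one
  have e2 : α * β = 1 ↔ α = β⁻¹ := mul_eq_one_iff_eq_inv
  simp only [e1, e2]
  have hq : (Fintype.card F : ℂ) ≠ 0 := Nat.cast_ne_zero.2 Fintype.card_ne_zero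
  have hq1 : (Fintype.card F : ℂ) - 1 ≠ 0 := by
    rw [sub_ne_zero]; exact_mod_cast Fintype.one_lt_card.ne'
  split_ifs <;> field_simp <;> norm_num

end CfsgLib.SL2Tori
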