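import Cfsg.Agent.Lib.SL2Tori.Tori

/-!
Sylow subgroups of `SL_2(q)`, `q` odd: centralisers and normalisers.
-/

set_option autoImplicit false

namespace CfsgLib.SL2Tori

open Matrix
open CfsgLib.Schur

/-- A `p`-subgroup is conjugate into any subgroup of index prime to `p`. -/
theorem exists_conj_mem_of_index {G : Type*} [Group G] [Finite G] {p : ℕ} [Fact p.Prime] {P H : Subgroup G}
    (hP : IsPGroup p P) (hH : ¬ p ∣ H.index) : ∃ g : G, ∀ x ∈ P, g⁻¹ * x * g ∈ H := by
  obtain ⟨z, hz⟩ := hP.nonempty_fixed_point_of_prime_not_dvd_card (G ⧸ H) hH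
  obtain ⟨g, rfl⟩ := QuotientGroup.mk_surjective z
  refine ⟨g, fun x hx => ?_⟩
  have h1 : (QuotientGroup.mk (x * g) : G ⧸ H) = QuotientGroup.mk g := hz ⟨x, hx⟩
  rw [mul_assoc]
  exact QuotientGroup.eq.1 h1.symm

theorem mem_normalizer_of_conj_mem {G : Type*} [Group G] [Finite G] {S : Subgroup G} {n : G}
    (h : ∀ x ∈ S, n * x * n⁻¹ ∈ S) : n ∈ Subgroup.normalizer (S : Set G) := by
  exact Subgroup.mem_normalizer_fintype h

variable {F : Type*} [Field F]

local notation "SL2" => Matrix.SpecialLinearGroup (Fin 2) F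
local notation "M2" => Matrix (Fin 2) (Fin 2) F

namespace TorusGen

variable {c : Matrix.SpecialLinearGroup (Fin 2) F} {h : ℕ} (T : TorusGen c h)
include T

theorem conj (g : SL2) : TorusGen (g * c * g⁻¹) h where
  two_le := T.two_le
  order := by
    rw [show g * c * g⁻¹ = MulAut.conj g c from rfl,
      MulEquiv.orderOf_eq, T.order]
  two_ne := T.two_ne
  trace_ne := by rw [trace_conj]; exact T.trace_ne
  cent x hx := by
    rw [Subgroup.mem_centralizer_singleton_iff] at hx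
    have h1 : g⁻¹ * x * g * c = c * (g⁻¹ * x * g) := by
      calc g⁻¹ * x * g * c = g⁻¹ * (x * (g * c * g⁻¹)) * g := by group
        _ = g⁻¹ * ((g * c * g⁻¹) * x) * g := by rw [hx]
        _ = c * (g⁻¹ * x * g) := by group
    obtain ⟨i, hi⟩ := Subgroup.mem_zpowers_iff.1 (T.comm_mem h1)
    exact Subgroup.mem_zpowers_iff.2 ⟨i, by rw [conj_zpow, hi]; group⟩
  inverter := by
    obtain ⟨w, hw, hw2⟩ := T.inverter
    refine ⟨g * w * g⁻¹, ?_, ?_⟩
    · calc g * w * g⁻¹ * (g * c * g⁻¹) * (g * w * g⁻¹)⁻¹ = g * (w * c * w⁻¹) * g⁻¹ := by group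
        _ = _ := by rw [hw]; group
    · rw [conj_pow, conj_pow, hw2]

omit T in
theorem mem_zpowers_conj {g x : SL2} (hx : g⁻¹ * x * g ∈ Subgroup.zpowers c) :
    x ∈ Subgroup.zpowers (g * c * g⁻¹) := by
  obtain ⟨i, hi⟩ := Subgroup.mem_zpowers_iff.1 hx
  exact Subgroup.mem_zpowers_iff.2 ⟨i, by rw [conj_zpow, hi]; group⟩

theorem mem_normalizer_conj {g x : SL2}
    (hx : g⁻¹ * x * g ∈ Subgroup.normalizer (Subgroup.zpowers c : Set SL2)) :
    x ∈ Subgroup.normalizer (Subgroup.zpowers (g * c * g⁻¹) : Set SL2) := by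
  refine (T.conj g).mem_normalizer ((T.conj_cases hx).imp (fun e => ?_) fun e => ?_)
  all_goals
    calc x * (g * c * g⁻¹) * x⁻¹ = g * ((g⁻¹ * x * g) * c * (g⁻¹ * x * g)⁻¹) * g⁻¹ := by group
      _ = _ := by rw [e] <;> group

theorem conj_mem_of_normalizer {n x : SL2} (hn : n ∈ Subgroup.normalizer (Subgroup.zpowers c : Set SL2))
    (hx : x ∈ Subgroup.zpowers c) : n * x * n⁻¹ = x ∨ n * x * n⁻¹ = x⁻¹ := by
  obtain ⟨i, rfl⟩ := Subgroup.mem_zpowers_iff.1 hx
  rw [← conj_zpow]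
  refine (T.conj_cases hn).imp (fun e => by rw [e]) (fun e => by rw [e, _root_.inv_zpow])

/-- Elements outside the torus invert it. -/
theorem conj_eq_inv {y x : SL2} (hy : y ∈ Subgroup.normalizer (Subgroup.zpowers c : Set SL2))
    (hy' : y ∉ Subgroup.zpowers c) (hx : x ∈ Subgroup.zpowers c) : y * x * y⁻¹ = x⁻¹ := by
  have h1 : y * c * y⁻¹ = c⁻¹ :=
    (T.conj_cases hy).resolve_left fun e => hy' (T.comm_mem (mul_inv_eq_iff_eq_mul.1 e))
  obtain ⟨i, rfl⟩ := Subgroup.mem_zpowers_iff.1 hx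
  rw [← conj_zpow, h1, _root_.inv_zpow]

/-- Whoever maps a non-central element of the torus into the torus normalises the torus. -/
theorem mem_normalizer_of_conj_mem {n x : SL2} (hx : x ∈ Subgroup.zpowers c) (h1 : (x : M2) ≠ 1)
    (h2 : (x : M2) ≠ -1) (hn : n * x * n⁻¹ ∈ Subgroup.zpowers c) :
    n ∈ Subgroup.normalizer (Subgroup.zpowers c : Set SL2) := by
  have hn1 : ((n * x * n⁻¹ : SL2) : M2) ≠ 1 ∧ ((n * x * n⁻¹ : SL2) : M2) ≠ -1 := by
    rw [← nonscalar_iff]
    intro s e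
    refine nonscalar_iff.2 ⟨h1, h2⟩ s ?_
    have h3 : (x : M2) = ((n⁻¹ : SL2) : M2) * (s • 1) * (n : M2) := by
      rw [← e, ← Matrix.SpecialLinearGroup.coe_mul, ← Matrix.SpecialLinearGroup.coe_mul]
      exact congrArg (fun z : SL2 => (z : M2)) (show x = n⁻¹ * (n * x * n⁻¹) * n by simp [mul_assoc])
    rw [h3, Matrix.mul_smul, Matrix.mul_one, Matrix.smul_mul, ← Matrix.SpecialLinearGroup.coe_mul,
      inv_mul_cancel, Matrix.SpecialLinearGroup.coe_one]
  have hc : n * c * n⁻¹ ∈ Subgroup.centralizer ({n * x * n⁻¹} : Set SL2) := by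
    rw [Subgroup.mem_centralizer_singleton_iff]
    have := commute_of_mem hx
    calc n * c * n⁻¹ * (n * x * n⁻¹) = n * (c * x) * n⁻¹ := by group
      _ = n * (x * c) * n⁻¹ := by rw [this]
      _ = _ := by group
  rw [T.centralizer_elt hn hn1.1 hn1.2] at hc
  exact T.mem_normalizer
    (eq_or_eq_inv_of_trace_eq T.two_ne T.nonscalar T.trace_ne (commute_of_mem hc) (trace_conj n c))

theorem centralizer_of_le {S : Subgroup SL2} (hS : S ≤ Subgroup.zpowers c) {x : SL2} (hx : x ∈ S)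
    (h1 : (x : M2) ≠ 1) (h2 : (x : M2) ≠ -1) :
    Subgroup.centralizer (S : Set SL2) = Subgroup.zpowers c := by
  refine le_antisymm ?_ ?_
  · rw [← T.centralizer_elt (hS hx) h1 h2]
    exact Subgroup.centralizer_le (Set.singleton_subset_iff.2 hx)
  · rw [← T.centralizer_set]
    exact Subgroup.centralizer_le hS

theorem normalizer_of_le [Finite F] {S : Subgroup SL2} (hS : S ≤ Subgroup.zpowers c) {x : SL2} (hx : x ∈ S)
    (h1 : (x : M2) ≠ 1) (h2 : (x : M2) ≠ -1) :
    Subgroup.normalizer (S : Set SL2) = Subgroup.normalizer (Subgroup.zpowers c : Set SL2) := by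
  ext n
  constructor
  · intro hn
    exact T.mem_normalizer_of_conj_mem (hS hx) h1 h2 (hS ((Subgroup.mem_normalizer_iff.1 hn x).1 hx))
  · intro hn
    refine SL2Tori.mem_normalizer_of_conj_mem fun y hy => ?_
    rcases T.conj_mem_of_normalizer hn (hS hy) with e | e <;> rw [e]
    · exact hy
    · exact inv_mem hy

theorem neg_one_sq : ((c ^ h : SL2) : M2) * ((c ^ h : SL2) : M2) = 1 := by
  rw [T.pow_h]; simp

theorem ne_of_odd_order {x : SL2} (hx : Odd (orderOf x)) (hx1 : x ≠ 1) :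
    (x : M2) ≠ 1 ∧ (x : M2) ≠ -1 := by
  refine ⟨fun e => hx1 (eq_one_of_coe e), fun e => hx1 ?_⟩
  have h2 : x ^ 2 = 1 := eq_one_of_coe (by rw [Matrix.SpecialLinearGroup.coe_pow, e]; simp)
  obtain ⟨k, hk⟩ := hx
  have := pow_orderOf_eq_one x
  rwa [hk, pow_succ, pow_mul, h2, one_pow, one_mul] at this

end TorusGen

variable [Fintype F]

theorem odd_sylow {c : SL2} {h m : ℕ} (T : TorusGen c h) {ℓ : ℕ} [Fact ℓ.Prime] (hℓ : ℓ ≠ 2)
    (hdvd : ℓ ∣ 2 * h) (hG : Nat.card SL2 = 2 * h * m) (hm : ¬ ℓ ∣ m) (P : Sylow ℓ SL2) :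
    Nat.card (Subgroup.centralizer ((P : Subgroup SL2) : Set SL2)) = 2 * h ∧
      IsCyclic (Subgroup.centralizer ((P : Subgroup SL2) : Set SL2)) ∧
      Nat.card (Subgroup.normalizer ((P : Subgroup SL2) : Set SL2)) = 4 * h := by
  have hidx : ¬ ℓ ∣ (Subgroup.zpowers c).index := by
    have h1 := (Subgroup.zpowers c).card_mul_index
    rw [T.card_torus, hG] at h1
    rwa [Nat.eq_of_mul_eq_mul_left (by have := T.two_le; omega) h1]
  obtain ⟨g, hg⟩ := exists_conj_mem_of_index P.isPGroup' hidx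
  have T' := T.conj g
  have hle : (P : Subgroup SL2) ≤ Subgroup.zpowers (g * c * g⁻¹) := fun x hx =>
    TorusGen.mem_zpowers_conj (hg x hx)
  have hne : (P : Subgroup SL2) ≠ ⊥ := P.ne_bot_of_dvd_card (hG ▸ hdvd.mul_right m)
  obtain ⟨x, hx, hx1⟩ := (Subgroup.ne_bot_iff_exists_ne_one.1 hne).elim fun x hx =>
    (⟨(x : SL2), x.2, fun e => hx (Subtype.ext e)⟩ : ∃ x ∈ (P : Subgroup SL2), x ≠ 1)
  have hodd : Odd (orderOf x) := by
    obtain ⟨k, hk⟩ := IsPGroup.iff_orderOf.1 P.isPGroup' ⟨x, hx⟩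
    rw [Subgroup.orderOf_mk] at hk
    rw [hk]
    exact ((Fact.out : ℓ.Prime).odd_of_ne_two hℓ).pow
  obtain ⟨h1, h2⟩ := T'.ne_of_odd_order hodd hx1
  rw [T'.centralizer_of_le hle hx h1 h2, T'.normalizer_of_le hle hx h1 h2]
  exact ⟨T'.card_torus, inferInstance, T'.normalizer_card.1⟩

/-- A torus of even `h` whose normaliser has odd index. -/
theorem exists_two_torus (hodd : Odd (Fintype.card F)) :
    ∃ (c : SL2) (h m : ℕ), TorusGen c h ∧ Nat.card SL2 = 4 * h * m ∧ Odd m ∧ Even h ∧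
      (Fintype.card F - 1 = 2 * h ∨ Fintype.card F + 1 = 2 * h) := by
  have hcard := natCard_slTwo (F := F)
  have h1 := Fintype.one_lt_card (α := F)
  obtain ⟨k, hk⟩ := hodd
  rcases Nat.even_or_odd' k with ⟨j, rfl | rfl⟩
  · obtain ⟨c, h, hh, T, -⟩ := exists_split (F := F) ⟨2 * j, hk⟩ (by omega)
    refine ⟨c, h, Fintype.card F * (2 * j + 1), T, ?_, ?_, ⟨j, by omega⟩, Or.inl hh⟩
    · rw [hcard, hh, show Fintype.card F + 1 = 2 * (2 * j + 1) by omega]; ring
    · exact Odd.mul ⟨2 * j, hk⟩ ⟨j, rfl⟩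
  · obtain ⟨c, h, hh, T, -⟩ := exists_nonsplit (F := F) ⟨2 * j + 1, hk⟩
    refine ⟨c, h, Fintype.card F * (2 * j + 1), T, ?_, ?_, ⟨j + 1, by omega⟩, Or.inr hh⟩
    · rw [hcard, hh, show Fintype.card F - 1 = 2 * (2 * j + 1) by omega]; ring
    · exact Odd.mul ⟨2 * j + 1, hk⟩ ⟨j, rfl⟩

/-- The torus normaliser containing a given Sylow 2-subgroup. -/
theorem exists_two_torus_ge (hodd : Odd (Fintype.card F)) (S : Sylow 2 SL2) :
    ∃ (c : SL2) (h m : ℕ), TorusGen c h ∧ Nat.card SL2 = 4 * h * m ∧ Odd m ∧ Even h ∧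
      (Fintype.card F - 1 = 2 * h ∨ Fintype.card F + 1 = 2 * h) ∧
      (S : Subgroup SL2) ≤ Subgroup.normalizer (Subgroup.zpowers c : Set SL2) := by
  obtain ⟨c, h, m, T, hG, hm, he, hq⟩ := exists_two_torus hodd
  have hidx : ¬ 2 ∣ (Subgroup.normalizer (Subgroup.zpowers c : Set SL2)).index := by
    have h1 := (Subgroup.normalizer (Subgroup.zpowers c : Set SL2)).card_mul_index
    rw [T.normalizer_card.1, hG] at h1
    rw [Nat.eq_of_mul_eq_mul_left (by have := T.two_le; omega) h1, ← even_iff_two_dvd,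
      Nat.not_even_iff_odd]
    exact hm
  obtain ⟨g, hg⟩ := exists_conj_mem_of_index S.isPGroup' hidx
  exact ⟨g * c * g⁻¹, h, m, T.conj g, hG, hm, he, hq, fun x hx => T.mem_normalizer_conj (hg x hx)⟩

section two

variable {c : Matrix.SpecialLinearGroup (Fin 2) F} {h : ℕ} (T : TorusGen c h)
  (S : Sylow 2 (Matrix.SpecialLinearGroup (Fin 2) F))
  (hle : (S : Subgroup (Matrix.SpecialLinearGroup (Fin 2) F)) ≤
    Subgroup.normalizer (Subgroup.zpowers c : Set (Matrix.SpecialLinearGroup (Fin 2) F)))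
include T hle

/-- `S` contains the 2-elements of the torus. -/
theorem mem_of_two_elt {t : SL2} (ht : t ∈ Subgroup.zpowers c) {k : ℕ} (hk : t ^ 2 ^ k = 1) :
    t ∈ (S : Subgroup SL2) := by
  have hpg : IsPGroup 2 (Subgroup.zpowers t) := by
    obtain ⟨n, -, hn⟩ := (Nat.dvd_prime_pow Nat.prime_two).1 (orderOf_dvd_of_pow_eq_one hk)
    exact IsPGroup.of_card (n := n) (by rw [Nat.card_zpowers, hn])
  have hnorm : (S : Subgroup SL2) ≤ Subgroup.normalizer (Subgroup.zpowers t : Set SL2) := fun n hn => by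
    refine mem_normalizer_of_conj_mem fun y hy => ?_
    rcases T.conj_mem_of_normalizer (hle hn) ((Subgroup.zpowers_le.2 ht) hy) with e | e <;> rw [e]
    · exact hy
    · exact inv_mem hy
  have hsup := IsPGroup.to_sup_of_normal_right' S.isPGroup' hpg hnorm
  rw [← S.is_maximal' hsup le_sup_left]
  exact Subgroup.mem_sup_right (Subgroup.mem_zpowers t)

theorem exists_outside {m : ℕ} (hG : Nat.card SL2 = 4 * h * m) :
    ∃ y ∈ (S : Subgroup SL2), y ∉ Subgroup.zpowers c := by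
  by_contra hall
  push Not at hall
  obtain ⟨j, hj⟩ := Subgroup.card_dvd_of_le (show (S : Subgroup SL2) ≤ Subgroup.zpowers c from hall)
  rw [T.card_torus] at hj
  apply S.not_dvd_index
  have h1 := (S : Subgroup SL2).card_mul_index
  rw [hG, show 4 * h * m = 2 * (2 * h) * m by ring, hj,
    show 2 * (Nat.card (S : Subgroup SL2) * j) * m = Nat.card (S : Subgroup SL2) * (2 * (j * m)) by ring] at h1
  rw [Nat.eq_of_mul_eq_mul_left Nat.card_pos h1]
  exact dvd_mul_right _ _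

/-- An element of order 4 of the torus, in `S`. -/
theorem exists_order_four (he : Even h) : ∃ a ∈ (S : Subgroup SL2), a ∈ Subgroup.zpowers c ∧
    (a : M2) * (a : M2) = -1 ∧ (a : M2) ≠ 1 ∧ (a : M2) ≠ -1 := by
  obtain ⟨j, hj⟩ := he
  have h1 : ((c ^ j : SL2) : M2) * ((c ^ j : SL2) : M2) = -1 := by
    rw [← Matrix.SpecialLinearGroup.coe_mul, ← pow_add, ← hj, T.pow_h]
  have h4 : (c ^ j) ^ 2 ^ 2 = 1 := by
    rw [← pow_mul, show j * 2 ^ 2 = 2 * h by omega, ← T.order, pow_orderOf_eq_one]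
  have hne : (-1 : M2) ≠ 1 := fun e => T.two_ne (by
    have := congrFun (congrFun e 0) 0
    simp at this
    linear_combination -this)
  refine ⟨c ^ j, mem_of_two_elt T S hle (Subgroup.npow_mem_zpowers c j) h4,
    Subgroup.npow_mem_zpowers c j, h1, fun e => ?_, fun e => ?_⟩ <;>
  · rw [e] at h1
    simp at h1
    exact hne h1.symm

theorem centralizer_two_sylow {m : ℕ} (hG : Nat.card SL2 = 4 * h * m) (he : Even h) :
    Subgroup.centralizer ((S : Subgroup SL2) : Set SL2) = Subgroup.center SL2 := by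
  refine le_antisymm (fun x hx => ?_) (Subgroup.center_le_centralizer _)
  obtain ⟨a, haS, haT, -, ha1, ha2⟩ := exists_order_four T S hle he
  obtain ⟨y, hyS, hyT⟩ := exists_outside T S hle hG
  have hxT : x ∈ Subgroup.zpowers c := by
    rw [← T.centralizer_elt haT ha1 ha2, Subgroup.mem_centralizer_singleton_iff]
    exact (Subgroup.mem_centralizer_iff.1 hx a haS).symm
  have h1 := T.conj_eq_inv (hle hyS) hyT hxT
  rw [Subgroup.mem_centralizer_iff.1 hx y hyS, mul_inv_cancel_right] at h1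
  have h2 : x ^ 2 = 1 := by rw [pow_two]; nth_rw 2 [h1]; group
  exact SpecLin.SLTwo.mem_center_iff'.2 (sq_eq_one_cases T.two_ne h2)

theorem normalizer_two_sylow_eight {m : ℕ} (hG : Nat.card SL2 = 4 * h * m) (h8 : 4 ∣ h) :
    Subgroup.normalizer ((S : Subgroup SL2) : Set SL2) = (S : Subgroup SL2) := by
  refine le_antisymm (fun n hn => ?_) Subgroup.le_normalizer
  obtain ⟨y, hyS, hyT⟩ := exists_outside T S hle hG
  obtain ⟨j, hj⟩ := h8
  have hj0 : 0 < j := by have := T.two_le; omega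
  have ho : orderOf (c ^ j) = 8 := by
    rw [orderOf_pow' c hj0.ne', T.order, hj, show 2 * (4 * j) = j * 8 by ring, Nat.gcd_mul_right_left,
      Nat.mul_div_cancel_left _ hj0]
  have haT := Subgroup.npow_mem_zpowers c j
  have haS : c ^ j ∈ (S : Subgroup SL2) :=
    mem_of_two_elt T S hle haT (k := 3) (by
      rw [show (2 : ℕ) ^ 3 = orderOf (c ^ j) from ho.symm]; exact pow_orderOf_eq_one _)
  have hanc : ((c ^ j : SL2) : M2) ≠ 1 ∧ ((c ^ j : SL2) : M2) ≠ -1 := by
    constructor <;> intro e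
    · rw [eq_one_of_coe e, orderOf_one] at ho; omega
    · have h2 : (c ^ j) ^ 2 = 1 := eq_one_of_coe (by rw [Matrix.SpecialLinearGroup.coe_pow, e]; simp)
      have := orderOf_le_of_pow_eq_one two_pos h2
      omega
  have hnN : n ∈ Subgroup.normalizer (Subgroup.zpowers c : Set SL2) := by
    refine T.mem_normalizer_of_conj_mem haT hanc.1 hanc.2 ?_
    have hmem := (Subgroup.mem_normalizer_iff.1 hn _).1 haS
    by_contra hout
    have h2 := T.sq_outside (hle hmem) hout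
    have h4 : (n * c ^ j * n⁻¹) ^ 4 = 1 := eq_one_of_coe (by
      rw [Matrix.SpecialLinearGroup.coe_pow, show (4 : ℕ) = 2 + 2 from rfl, pow_add, pow_two, h2]; simp)
    rw [conj_pow, conj_eq_one_iff] at h4
    have := orderOf_le_of_pow_eq_one (by norm_num) h4
    omega
  suffices key : ∀ t ∈ Subgroup.zpowers c,
      t ∈ Subgroup.normalizer ((S : Subgroup SL2) : Set SL2) → t ∈ (S : Subgroup SL2) by
    by_cases hnT : n ∈ Subgroup.zpowers c
    · exact key n hnT hn
    · have h1 : y⁻¹ * n ∈ Subgroup.zpowers c := by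
        obtain ⟨w, hw, -⟩ := T.inverter
        have a1 := (T.normalizer_cases hw (hle hyS)).resolve_left hyT
        have a2 := (T.normalizer_cases hw hnN).resolve_left hnT
        rw [show y⁻¹ * n = (w⁻¹ * y)⁻¹ * (w⁻¹ * n) by group]
        exact mul_mem (inv_mem a1) a2
      have h2 := key _ h1 (mul_mem (inv_mem (Subgroup.le_normalizer hyS)) hn)
      simpa using mul_mem hyS h2
  intro t htT htN
  have h1 : t * y * t⁻¹ * y⁻¹ ∈ (S : Subgroup SL2) :=
    mul_mem ((Subgroup.mem_normalizer_iff.1 htN y).1 hyS) (inv_mem hyS)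
  have h2 : t * y * t⁻¹ * y⁻¹ = t ^ 2 := by
    rw [show t * y * t⁻¹ * y⁻¹ = t * (y * t⁻¹ * y⁻¹) by group,
      T.conj_eq_inv (hle hyS) hyT (inv_mem htT), inv_inv, pow_two]
  rw [h2] at h1
  obtain ⟨k, hk⟩ := S.isPGroup' ⟨_, h1⟩
  refine mem_of_two_elt T S hle htT (k := k + 1) ?_
  rw [pow_succ', pow_mul]
  simpa [Subtype.ext_iff] using hk

end two

end CfsgLib.SL2Tori
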