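import Cfsg.Agent.Lib.SL2Tori.Sylow
import Cfsg.Agent.Lib.Recog.PGL2Spectrum

/-!
The normaliser of a quaternion Sylow 2-subgroup of order 8 of `SL_2(q)`.
-/

set_option autoImplicit false

namespace CfsgLib.SL2Tori

open Matrix

variable {F : Type*} [Field F] [Fintype F]

local notation "SL2" => Matrix.SpecialLinearGroup (Fin 2) F
local notation "M2" => Matrix (Fin 2) (Fin 2) F

/-- The element of order three permuting the three axes of a quaternion subgroup. -/
theorem exists_three {i j : SL2} (h2 : (2 : F) ≠ 0) (hi : (i : M2) * i = -1) (hj : (j : M2) * j = -1)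
    (hij : (j : M2) * i = -((i : M2) * j)) :
    ∃ u : SL2, u ^ 3 = 1 ∧ u * i * u⁻¹ = j ∧ u * j * u⁻¹ = i * j := by
  set A := (i : M2) with hA
  set B := (j : M2) with hB
  set C := A * B with hC
  have hCA : C * A = B := by
    rw [hC, mul_assoc, hij, mul_neg, ← mul_assoc, hi, neg_one_mul, neg_neg]
  have hCB : C * B = -A := by rw [hC, mul_assoc, hj, mul_neg_one]
  have hBC : B * C = A := by
    rw [hC, ← mul_assoc, hij, neg_mul, mul_assoc, hj, mul_neg_one, neg_neg]
  have hAC : A * C = -B := by rw [hC, ← mul_assoc, hi, neg_one_mul]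
  have hCC : C * C = -1 := by
    nth_rw 2 [hC]
    rw [← mul_assoc, hCA, hj]
  set S := 1 + A + B + C with hS
  have hSS : S * S = (2 : F) • S - (4 : F) • 1 := by
    simp only [hS, add_mul, mul_add, mul_one, one_mul, hi, hj, hij, hCA, hCB, hBC, hAC, hCC]
    rw [← hC]
    module
  have hSA : S * A = B * S := by
    simp only [hS, add_mul, mul_add, mul_one, one_mul, hi, hj, hij, hCA, hBC]
    abel
  have hSB : S * B = C * S := by
    simp only [hS, add_mul, mul_add, mul_one, one_mul, hj, hCA, hCB, hCC]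
    rw [← hC]
    abel
  have h4 : (4 : F) ≠ 0 := by rw [show (4 : F) = 2 * 2 by norm_num]; exact mul_ne_zero h2 h2
  set U := (-1 / 2 : F) • S with hU
  have hUU : U * U = -U - 1 := by
    rw [hU, Matrix.smul_mul, Matrix.mul_smul, smul_smul, hSS, smul_sub, smul_smul, smul_smul,
      show (-1 / 2 * (-1 / 2) * 4 : F) = 1 by field_simp; ring, one_smul, ← neg_smul]
    congr 2
    field_simp
  -- the trace is `-1`, hence the determinant is `1`
  have htr0 : ∀ M : M2, M.det = 1 → M * M = -1 → M.trace = 0 := by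
    intro M hd hM
    have e := Recog.PGL2.charmat_two M
    rw [hM, hd, one_smul] at e
    have e2 : M.trace • M = 0 := by linear_combination (norm := module) -e
    rcases smul_eq_zero.1 e2 with h | h
    · exact h
    · rw [h, Matrix.trace_zero]
  have tA := htr0 A i.prop hi
  have tB := htr0 B j.prop hj
  have tC := htr0 C (by rw [hC, Matrix.det_mul, show A.det = 1 from i.prop, show B.det = 1 from j.prop, mul_one]) hCC
  have htr : U.trace = -1 := by
    rw [hU, Matrix.trace_smul, hS, Matrix.trace_add, Matrix.trace_add, Matrix.trace_add, Matrix.trace_one,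
      tA, tB, tC, Fintype.card_fin, smul_eq_mul]
    push_cast
    field_simp
    norm_num
  have hdet : U.det = 1 := by
    have e := Recog.PGL2.charmat_two U
    rw [hUU, htr, neg_one_smul] at e
    have e1 := congrFun (congrFun e 0) 0
    simp at e1
    linear_combination -e1
  let u : SL2 := ⟨U, hdet⟩
  have hu : (u : M2) = U := rfl
  refine ⟨u, eq_one_of_coe ?_, ?_, ?_⟩
  · rw [Matrix.SpecialLinearGroup.coe_pow, hu, pow_succ, pow_two, hUU, sub_mul, neg_mul, hUU, one_mul]
    abel
  · rw [mul_inv_eq_iff_eq_mul]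
    refine Subtype.ext ?_
    rw [Matrix.SpecialLinearGroup.coe_mul, Matrix.SpecialLinearGroup.coe_mul, hu, ← hA, ← hB, hU,
      Matrix.smul_mul, Matrix.mul_smul, hSA]
  · rw [mul_inv_eq_iff_eq_mul]
    refine Subtype.ext ?_
    rw [Matrix.SpecialLinearGroup.coe_mul, Matrix.SpecialLinearGroup.coe_mul,
      Matrix.SpecialLinearGroup.coe_mul, hu, ← hA, ← hB, ← hC, hU, Matrix.smul_mul, Matrix.mul_smul, hSB]

theorem normalizer_two_sylow_quaternion {c : SL2} {h m : ℕ} (T : TorusGen c h) (S : Sylow 2 SL2)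
    (hle : (S : Subgroup SL2) ≤ Subgroup.normalizer (Subgroup.zpowers c : Set SL2))
    (hG : Nat.card SL2 = 4 * h * m) (hm : Odd m) (he : Even h) (h4 : ¬ 4 ∣ h) :
    Nat.card (Subgroup.normalizer ((S : Subgroup SL2) : Set SL2)) = 3 * Nat.card (S : Subgroup SL2) := by
  classical
  obtain ⟨i, hiS, hiT, hii, hi1, hi2⟩ := exists_order_four T S hle he
  obtain ⟨j, hjS, hjT⟩ := exists_outside T S hle hG
  have hjj := T.sq_outside (hle hjS) hjT
  have hinv : i⁻¹ = i * i * i := by
    refine inv_eq_of_mul_eq_one_right (eq_one_of_coe ?_)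
    simp only [Matrix.SpecialLinearGroup.coe_mul, ← mul_assoc, hii]
    rw [mul_assoc, hii]; simp
  have hij : (j : M2) * i = -((i : M2) * j) := by
    have := mul_inv_eq_iff_eq_mul.1 (T.conj_eq_inv (hle hjS) hjT hiT)
    rw [hinv] at this
    have e := congrArg Subtype.val this
    simp only [Matrix.SpecialLinearGroup.coe_mul, hii] at e
    rw [e]; simp
  obtain ⟨k', hk⟩ := he
  obtain ⟨o, rfl⟩ : ∃ o, h = 2 * (2 * o + 1) := ⟨k' / 2, by omega⟩
  have hScard : Nat.card (S : Subgroup SL2) = 8 := by
    have hodd : Odd ((2 * o + 1) * m) := Odd.mul ⟨o, rfl⟩ hm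
    rw [S.card_eq_multiplicity, hG, show 4 * (2 * (2 * o + 1)) * m = 2 ^ 3 * ((2 * o + 1) * m) by ring,
      Nat.factorization_mul (by norm_num) (Nat.pos_iff_ne_zero.1 hodd.pos), Finsupp.add_apply,
      Nat.Prime.factorization_pow Nat.prime_two, Finsupp.single_eq_same,
      Nat.factorization_eq_zero_of_not_dvd (by rw [← even_iff_two_dvd, Nat.not_even_iff_odd]; exact hodd),
      add_zero]
    norm_num
  obtain ⟨u, hu3, hui, huj⟩ := exists_three T.two_ne hii hjj hij
  -- the torus part of `S` is generated by `i`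
  have hoi : orderOf i = 4 := by
    refine orderOf_eq_prime_pow (p := 2) (n := 1) ?_ (eq_one_of_coe ?_)
    · intro e
      rcases sq_eq_one_cases T.two_ne (show i ^ 2 = 1 by simpa using e) with e | e
      · exact hi1 e
      · exact hi2 e
    · rw [Matrix.SpecialLinearGroup.coe_pow, show (2 : ℕ) ^ (1 + 1) = 2 + 2 from rfl, pow_add, pow_two, hii]
      simp
  have hcap : (S : Subgroup SL2) ⊓ Subgroup.zpowers c = Subgroup.zpowers i := by
    refine (Subgroup.eq_of_le_of_card_ge (Subgroup.zpowers_le.2 (Subgroup.mem_inf.2 ⟨hiS, hiT⟩)) ?_).symm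
    rw [Nat.card_zpowers, hoi]
    have d1 := Subgroup.card_dvd_of_le (inf_le_left : (S : Subgroup SL2) ⊓ Subgroup.zpowers c ≤ S)
    have d2 := Subgroup.card_dvd_of_le (inf_le_right : (S : Subgroup SL2) ⊓ Subgroup.zpowers c ≤ Subgroup.zpowers c)
    rw [hScard] at d1
    rw [T.card_torus] at d2
    have d3 := Nat.dvd_gcd d1 d2
    rw [show 2 * (2 * (2 * o + 1)) = 4 * (2 * o + 1) by ring, show (8 : ℕ) = 4 * 2 from rfl,
      Nat.gcd_mul_left, show Nat.gcd 2 (2 * o + 1) = 1 by simp] at d3
    exact Nat.le_of_dvd (by norm_num) d3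
  have hmemS : ∀ x ∈ (S : Subgroup SL2), x ∈ Subgroup.zpowers i ∨ j⁻¹ * x ∈ Subgroup.zpowers i := by
    intro x hx
    rw [← hcap]
    by_cases hxT : x ∈ Subgroup.zpowers c
    · exact Or.inl (Subgroup.mem_inf.2 ⟨hx, hxT⟩)
    · obtain ⟨w, hw, -⟩ := T.inverter
      have a1 := (T.normalizer_cases hw (hle hjS)).resolve_left hjT
      have a2 := (T.normalizer_cases hw (hle hx)).resolve_left hxT
      refine Or.inr (Subgroup.mem_inf.2 ⟨mul_mem (inv_mem hjS) hx, ?_⟩)
      rw [show j⁻¹ * x = (w⁻¹ * j)⁻¹ * (w⁻¹ * x) by group]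
      exact mul_mem (inv_mem a1) a2
  have huN : u ∈ Subgroup.normalizer ((S : Subgroup SL2) : Set SL2) := by
    refine mem_normalizer_of_conj_mem fun x hx => ?_
    have hz : ∀ y ∈ Subgroup.zpowers i, u * y * u⁻¹ ∈ (S : Subgroup SL2) := by
      intro y hy
      obtain ⟨r, rfl⟩ := Subgroup.mem_zpowers_iff.1 hy
      rw [← conj_zpow, hui]
      exact zpow_mem hjS r
    rcases hmemS x hx with hy | hy
    · exact hz x hy
    · rw [show u * x * u⁻¹ = (u * j * u⁻¹) * (u * (j⁻¹ * x) * u⁻¹) by group, huj]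
      exact mul_mem (mul_mem hiS hjS) (hz _ hy)
  have hu1 : u ≠ 1 := by
    rintro rfl
    rw [one_mul, inv_one, mul_one] at hui
    exact hjT (hui ▸ hiT)
  have h3 : 3 ∣ Nat.card (Subgroup.normalizer ((S : Subgroup SL2) : Set SL2)) := by
    have : orderOf u = 3 := orderOf_eq_prime (hp := ⟨Nat.prime_three⟩) hu3 hu1
    rw [← this, ← Subgroup.orderOf_mk u huN]
    exact orderOf_dvd_natCard _
  have h8 : Nat.card (S : Subgroup SL2) ∣ Nat.card (Subgroup.normalizer ((S : Subgroup SL2) : Set SL2)) :=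
    Subgroup.card_dvd_of_le Subgroup.le_normalizer
  rw [hScard] at h8 ⊢
  obtain ⟨r, hr⟩ := h8
  have hrodd : Odd r := by
    rw [← Nat.not_even_iff_odd, even_iff_two_dvd]
    intro hr2
    apply S.not_dvd_index
    have h1 := (S : Subgroup SL2).card_mul_index
    obtain ⟨v, hv⟩ := Subgroup.card_subgroup_dvd_card (Subgroup.normalizer ((S : Subgroup SL2) : Set SL2))
    rw [hScard, hv, hr, mul_assoc] at h1
    rw [Nat.eq_of_mul_eq_mul_left (by norm_num) h1]
    exact hr2.mul_right v
  -- at most 48 elements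
  have hbound : Nat.card (Subgroup.normalizer ((S : Subgroup SL2) : Set SL2)) ≤ 48 := by
    let z : SL2 := i * i
    have hzM : (z : M2) = -1 := by rw [Matrix.SpecialLinearGroup.coe_mul, hii]
    have hzS : z ∈ (S : Subgroup SL2) := mul_mem hiS hiS
    have hz1 : z ≠ 1 := fun e => T.two_ne (by
      have := congrFun (congrFun (hzM.symm.trans (congrArg Subtype.val e)) 0) 0
      simp at this
      linear_combination -this)
    let : Fintype SL2 := Fintype.ofFinite _
    let Sf : Finset SL2 := Finset.univ.filter (· ∈ (S : Subgroup SL2))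
    have hSf : Sf.card = 8 := by
      rw [← hScard, Nat.card_eq_fintype_card, Fintype.card_subtype]
    let P : Finset (Σ _ : SL2, SL2) :=
      (Sf \ {1, z}).sigma fun p => Sf \ {1, z, p, p⁻¹}
    have hP : P.card = 24 := by
      rw [Finset.card_sigma]
      have hsub2 : ({1, z} : Finset SL2) ⊆ Sf := by
        simp [Finset.insert_subset_iff, Sf, one_mem, hzS]
      have h6 : (Sf \ {1, z}).card = 6 := by
        rw [Finset.card_sdiff_of_subset hsub2, hSf, Finset.card_pair hz1.symm]
      rw [Finset.sum_congr rfl (g := fun _ => 4), Finset.sum_const, h6, smul_eq_mul]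
      intro p hp
      simp only [Finset.mem_sdiff, Sf, Finset.mem_filter, Finset.mem_univ, true_and, Finset.mem_insert,
        Finset.mem_singleton, not_or] at hp
      obtain ⟨hpS, hp1, hpz⟩ := hp
      have hp2 : p ≠ p⁻¹ := fun e => by
        rcases sq_eq_one_cases T.two_ne (show p ^ 2 = 1 by rw [pow_two]; nth_rw 2 [e]; group) with e | e
        · exact hp1 (eq_one_of_coe e)
        · exact hpz (Subtype.ext (e.trans hzM.symm))
      have hzi : z⁻¹ = z := inv_eq_of_mul_eq_one_right (eq_one_of_coe (by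
        rw [Matrix.SpecialLinearGroup.coe_mul, hzM]; simp))
      rw [Finset.card_sdiff_of_subset (by simp [Finset.insert_subset_iff, Sf, one_mem, hzS, hpS]), hSf,
        Finset.card_insert_of_notMem, Finset.card_insert_of_notMem, Finset.card_pair hp2]
      · simp only [Finset.mem_insert, Finset.mem_singleton, not_or]
        exact ⟨Ne.symm hpz, fun e => hpz (by rw [← inv_inv p, ← e, hzi])⟩
      · simp only [Finset.mem_insert, Finset.mem_singleton, not_or]
        exact ⟨hz1.symm, Ne.symm hp1, fun e => hp1 (inv_eq_one.1 e.symm)⟩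
    let f : SL2 → Σ _ : SL2, SL2 := fun n => ⟨n * i * n⁻¹, n * j * n⁻¹⟩
    let Nf : Finset SL2 := Finset.univ.filter (· ∈ Subgroup.normalizer ((S : Subgroup SL2) : Set SL2))
    have hNf : Nat.card (Subgroup.normalizer ((S : Subgroup SL2) : Set SL2)) = Nf.card := by
      rw [Nat.card_eq_fintype_card, Fintype.card_subtype]
    have himg : ∀ n ∈ Nf, f n ∈ P := by
      intro n hn
      simp only [Nf, Finset.mem_filter, Finset.mem_univ, true_and] at hn
      have hzc : n * z * n⁻¹ = z := by
        refine Subtype.ext ?_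
        simp only [Matrix.SpecialLinearGroup.coe_mul, hzM, mul_neg, mul_one, neg_mul]
        rw [← Matrix.SpecialLinearGroup.coe_mul, mul_inv_cancel, Matrix.SpecialLinearGroup.coe_one]
      simp only [P, Sf, f, Finset.mem_sigma, Finset.mem_sdiff, Finset.mem_filter, Finset.mem_univ, true_and,
        Finset.mem_insert, Finset.mem_singleton, not_or]
      refine ⟨⟨(Subgroup.mem_normalizer_iff.1 hn i).1 hiS, ?_, ?_⟩,
        (Subgroup.mem_normalizer_iff.1 hn j).1 hjS, ?_, ?_, ?_, ?_⟩
      · exact fun e => hi1 (by rw [conj_eq_one_iff.1 e]; rfl)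
      · exact fun e => hi2 (by rw [mul_left_cancel (mul_right_cancel (e.trans hzc.symm))]; exact hzM)
      · exact fun e => hjT (by rw [conj_eq_one_iff.1 e]; exact one_mem _)
      · exact fun e => hjT (by rw [mul_left_cancel (mul_right_cancel (e.trans hzc.symm))]; exact mul_mem hiT hiT)
      · exact fun e => hjT (by rw [mul_left_cancel (mul_right_cancel e)]; exact hiT)
      · intro e
        rw [show (n * i * n⁻¹)⁻¹ = n * i⁻¹ * n⁻¹ by group] at e
        exact hjT (by rw [mul_left_cancel (mul_right_cancel e)]; exact inv_mem hiT)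
    rw [hNf]
    refine (Finset.card_le_mul_card_image Nf 2 (f := f) fun b hb => ?_).trans ?_
    · obtain ⟨n, -, rfl⟩ := Finset.mem_image.1 hb
      refine le_trans (Finset.card_le_card (t := ({n, n * z} : Finset SL2)) fun x hx => ?_) Finset.card_le_two
      obtain ⟨-, hx⟩ := Finset.mem_filter.1 hx
      simp only [f, Sigma.mk.injEq, heq_eq_eq] at hx
      obtain ⟨e1, e2⟩ := hx
      have hk : n⁻¹ * x ∈ Subgroup.centralizer ((S : Subgroup SL2) : Set SL2) := by
        refine Subgroup.mem_centralizer_iff.2 fun s hs => ?_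
        have key : ∀ s : SL2, x * s * x⁻¹ = n * s * n⁻¹ → s * (n⁻¹ * x) = n⁻¹ * x * s := fun s e => by
          calc s * (n⁻¹ * x) = n⁻¹ * (n * s * n⁻¹) * x := by group
            _ = n⁻¹ * (x * s * x⁻¹) * x := by rw [e]
            _ = _ := by group
        refine key s ?_
        rcases hmemS s hs with hy | hy
        · obtain ⟨r, rfl⟩ := Subgroup.mem_zpowers_iff.1 hy
          rw [← conj_zpow, e1, conj_zpow]
        · obtain ⟨r, hr'⟩ := Subgroup.mem_zpowers_iff.1 hy
          rw [show s = j * i ^ r by rw [hr']; group]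
          calc x * (j * i ^ r) * x⁻¹ = (x * j * x⁻¹) * (x * i * x⁻¹) ^ r := by rw [conj_zpow]; group
            _ = (n * j * n⁻¹) * (n * i * n⁻¹) ^ r := by rw [e1, e2]
            _ = _ := by rw [conj_zpow]; group
      rw [centralizer_two_sylow T S hle hG ⟨2 * o + 1, by ring⟩, SpecLin.SLTwo.mem_center_iff'] at hk
      rcases hk with e | e
      · simp [inv_mul_eq_one.1 (eq_one_of_coe e)]
      · have : n⁻¹ * x = z := Subtype.ext (e.trans hzM.symm)
        simp [← this]
    · have := Finset.card_le_card (Finset.image_subset_iff.2 himg)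
      omega
  obtain ⟨r', hr'⟩ := hrodd
  obtain ⟨t, ht⟩ := h3
  rw [hr] at ht hbound ⊢
  omega

end CfsgLib.SL2Tori
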