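import Cfsg.Agent.Lib.SL2Tori.Tori
import Cfsg.Prelude.Def_ParabolicCharacters

/-!
The Borel subgroup of `SL_2`.
-/

set_option autoImplicit false

namespace CfsgLib.SL2Tori

open Matrix

variable {F : Type*} [Field F]

local notation "SL2" => Matrix.SpecialLinearGroup (Fin 2) F
local notation "M2" => Matrix (Fin 2) (Fin 2) F

/-- The upper triangular subgroup of `SL_2`. -/
abbrev borel (F : Type*) [Field F] : Subgroup (Matrix.SpecialLinearGroup (Fin 2) F) :=
  (Cfsg.upperTriangularGL 2 F).comap Matrix.SpecialLinearGroup.toGL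

theorem mem_borel {g : SL2} : g ∈ borel F ↔ (g : M2) 1 0 = 0 := by
  show (g : M2).BlockTriangular id ↔ _
  constructor
  · exact fun h => h (i := 1) (j := 0) (by decide)
  · intro h i j hij
    fin_cases i <;> fin_cases j <;> first | exact h | exact absurd hij (by decide)

/-- The element `[[a, b], [0, 1/a]]`. -/
def bEl (a : Fˣ) (b : F) : borel F :=
  ⟨⟨!![(a : F), b; 0, ((a⁻¹ : Fˣ) : F)], by simp [Matrix.det_fin_two]⟩, mem_borel.2 rfl⟩

@[simp] theorem bEl_coe (a : Fˣ) (b : F) :
    ((bEl a b : SL2) : M2) = !![(a : F), b; 0, ((a⁻¹ : Fˣ) : F)] := rfl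

theorem borel_apply_zero_ne (g : borel F) : ((g : SL2) : M2) 0 0 ≠ 0 := by
  have hd : (((g : SL2) : M2)).det = 1 := (g : SL2).prop
  rw [Matrix.det_fin_two, mem_borel.1 g.2, mul_zero, sub_zero] at hd
  exact left_ne_zero_of_mul_eq_one hd

theorem bEl_bijective : Function.Bijective (fun p : Fˣ × F => bEl p.1 p.2) := by
  constructor
  · rintro ⟨a, b⟩ ⟨a', b'⟩ e
    have e' := congrArg (fun g : borel F => ((g : SL2) : M2)) e
    have h1 := congrFun (congrFun e' 0) 0
    have h2 := congrFun (congrFun e' 0) 1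
    simp at h1 h2
    rw [Units.ext h1, h2]
  · intro g
    refine ⟨(Units.mk0 _ (borel_apply_zero_ne g), ((g : SL2) : M2) 0 1), Subtype.ext (Subtype.ext ?_)⟩
    have hd : (((g : SL2) : M2)).det = 1 := (g : SL2).prop
    rw [Matrix.det_fin_two, mem_borel.1 g.2, mul_zero, sub_zero] at hd
    rw [bEl_coe]
    ext i j
    fin_cases i <;> fin_cases j <;> simp [mem_borel.1 g.2]
    exact (eq_inv_of_mul_eq_one_right hd).symm

theorem card_borel [Fintype F] : Nat.card (borel F) = (Fintype.card F - 1) * Fintype.card F := by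
  rw [← Nat.card_eq_of_bijective _ bEl_bijective, Nat.card_prod, Nat.card_units, Nat.card_eq_fintype_card]

theorem bEl_commute_iff (a a' : Fˣ) (b b' : F) :
    Commute (bEl a b) (bEl a' b') ↔ b' * ((a : F) - (a : F)⁻¹) = b * ((a' : F) - (a' : F)⁻¹) := by
  rw [commute_iff_eq]
  constructor
  · intro e
    have := congrArg (fun g : borel F => ((g : SL2) : M2) 0 1) e
    simp at this
    linear_combination this
  · intro e
    refine Subtype.ext (Subtype.ext ?_)
    rw [Subgroup.coe_mul, Subgroup.coe_mul, Matrix.SpecialLinearGroup.coe_mul,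
      Matrix.SpecialLinearGroup.coe_mul, bEl_coe, bEl_coe]
    ext i j
    fin_cases i <;> fin_cases j <;> simp [mul_comm]
    linear_combination e

theorem card_conjClasses_borel [Fintype F] (hodd : Odd (Fintype.card F)) :
    Nat.card (ConjClasses (borel F)) = Fintype.card F + 3 := by
  classical
  have h2 := two_ne_of_odd hodd
  set q := Fintype.card F with hq
  let δ : Fˣ → F := fun a => (a : F) - (a : F)⁻¹
  have hδ : ∀ a : Fˣ, δ a = 0 ↔ a = 1 ∨ a = -1 := fun a => by
    have h0 : (a : F) ≠ 0 := a.ne_zero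
    simp only [δ, Units.ext_iff, Units.val_one, Units.val_neg]
    rw [← sq_eq_one_iff, sub_eq_zero, ← mul_eq_one_iff_eq_inv₀ h0, pow_two]
  let S : Fˣ × Fˣ → Type _ := fun p => {v : F × F // v.2 * δ p.1 = v.1 * δ p.2}
  let e : {z : borel F × borel F // Commute z.1 z.2} ≃ Σ p : Fˣ × Fˣ, S p :=
    { toFun := fun z =>
        ⟨(((Equiv.ofBijective _ bEl_bijective).symm z.1.1).1, ((Equiv.ofBijective _ bEl_bijective).symm z.1.2).1),
          ⟨(((Equiv.ofBijective _ bEl_bijective).symm z.1.1).2, ((Equiv.ofBijective _ bEl_bijective).symm z.1.2).2),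
            (bEl_commute_iff _ _ _ _).1 (by
              have h1 := (Equiv.ofBijective _ bEl_bijective).apply_symm_apply z.1.1
              have h3 := (Equiv.ofBijective _ bEl_bijective).apply_symm_apply z.1.2
              simp only [Equiv.ofBijective_apply] at h1 h3
              rw [h1, h3]
              exact z.2)⟩⟩
      invFun := fun s => ⟨(bEl s.1.1 s.2.1.1, bEl s.1.2 s.2.1.2), (bEl_commute_iff _ _ _ _).2 s.2.2⟩
      left_inv := fun z => Subtype.ext <| Prod.ext
        ((Equiv.ofBijective _ bEl_bijective).apply_symm_apply z.1.1)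
        ((Equiv.ofBijective _ bEl_bijective).apply_symm_apply z.1.2)
      right_inv := by
        rintro ⟨⟨a, a'⟩, ⟨⟨b, b'⟩, hv⟩⟩
        have h1 := (Equiv.ofBijective _ bEl_bijective).symm_apply_apply (a, b)
        have h3 := (Equiv.ofBijective _ bEl_bijective).symm_apply_apply (a', b')
        simp only [Equiv.ofBijective_apply] at h1 h3
        refine Sigma.subtype_ext ?_ ?_ <;> simp only [h1, h3] }
  have hS : ∀ p : Fˣ × Fˣ, Nat.card (S p) = if δ p.1 = 0 ∧ δ p.2 = 0 then q * q else q := by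
    intro p
    split_ifs with h
    · rw [Nat.card_congr (Equiv.subtypeUnivEquiv fun v => by rw [h.1, h.2, mul_zero, mul_zero]),
        Nat.card_prod, Nat.card_eq_fintype_card]
    · rw [hq, ← Nat.card_eq_fintype_card]
      symm
      by_cases h1 : δ p.1 = 0
      · have h3 : δ p.2 ≠ 0 := fun h3 => h ⟨h1, h3⟩
        refine Nat.card_eq_of_bijective (fun x : F => (⟨(0, x), by simp [h1]⟩ : S p)) ⟨?_, ?_⟩
        · intro x y e; simpa using congrArg (fun v : S p => v.1.2) e
        · rintro ⟨⟨b, b'⟩, hv⟩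
          simp only [h1, mul_zero] at hv
          exact ⟨b', Subtype.ext (by simp [(mul_eq_zero.1 hv.symm).resolve_right h3])⟩
      · refine Nat.card_eq_of_bijective
          (fun x : F => (⟨(x, x * δ p.2 / δ p.1), div_mul_cancel₀ _ h1⟩ : S p)) ⟨?_, ?_⟩
        · intro x y e; simpa using congrArg (fun v : S p => v.1.1) e
        · rintro ⟨⟨b, b'⟩, hv⟩
          simp only at hv
          exact ⟨b, Subtype.ext (by simp [← hv, h1])⟩
  have hc := card_comm_eq_card_conjClasses_mul_card (borel F)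
  rw [Nat.card_congr e, Nat.card_sigma, Finset.sum_congr rfl fun p _ => hS p, card_borel] at hc
  have hne : (1 : Fˣ) ≠ -1 := fun e => h2 (by
    have := congrArg Units.val e; simp at this; linear_combination this)
  have hf : (Finset.univ.filter fun p : Fˣ × Fˣ => δ p.1 = 0 ∧ δ p.2 = 0).card = 4 := by
    rw [show (Finset.univ.filter fun p : Fˣ × Fˣ => δ p.1 = 0 ∧ δ p.2 = 0)
        = ({1, -1} : Finset Fˣ) ×ˢ ({1, -1} : Finset Fˣ) by ext p; simp [hδ],
      Finset.card_product, Finset.card_pair hne]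
  have hf' := Finset.card_filter_add_card_filter_not (s := (Finset.univ : Finset (Fˣ × Fˣ)))
    (fun p : Fˣ × Fˣ => δ p.1 = 0 ∧ δ p.2 = 0)
  rw [hf, Finset.card_univ, Fintype.card_prod, Fintype.card_units, ← hq] at hf'
  rw [Finset.sum_ite, Finset.sum_const, Finset.sum_const, smul_eq_mul, smul_eq_mul, hf] at hc
  obtain ⟨m, hm⟩ := hodd
  have hq1 := Fintype.one_lt_card (α := F)
  obtain ⟨r, hr⟩ : ∃ r, q = r + 3 := ⟨q - 3, by omega⟩
  rw [← hq] at hc
  rw [hr] at hc hf' ⊢
  rw [show r + 3 - 1 = r + 2 by omega] at hc hf'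
  refine Nat.eq_of_mul_eq_mul_right (show 0 < (r + 2) * (r + 3) by positivity) ?_
  rw [← hc]
  set k := (Finset.univ.filter fun p : Fˣ × Fˣ => ¬(δ p.1 = 0 ∧ δ p.2 = 0)).card
  nlinarith [hf']

end CfsgLib.SL2Tori
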