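import Mathlib
/-!
The class number of a dicyclic group.
-/
set_option autoImplicit false

namespace CfsgLib.SL2Tori

variable {h : ℕ}

theorem card_two_torsion (hh : 0 < h) : Nat.card {k : ZMod (2 * h) // k + k = 0} = 2 := by
  have : NeZero (2 * h) := ⟨by omega⟩
  have hset : {k : ZMod (2 * h) | k + k = 0} = {0, (h : ZMod (2 * h))} := by
    ext k
    simp only [Set.mem_ofPred_eq, Set.mem_insert_iff, Set.mem_singleton_iff]
    constructor
    · intro hk
      rw [← ZMod.natCast_zmod_val k, ← Nat.cast_add, ZMod.natCast_eq_zero_iff] at hk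
      have hlt := ZMod.val_lt k
      obtain ⟨m, hm⟩ := hk
      rcases m with _ | _ | m
      · left; rw [← ZMod.natCast_zmod_val k, show k.val = 0 by omega, Nat.cast_zero]
      · right; rw [← ZMod.natCast_zmod_val k, show k.val = h by omega]
      · have : 2 * h * 2 ≤ 2 * h * (m + 1 + 1) := Nat.mul_le_mul_left _ (by omega)
        omega
    · rintro (rfl | rfl)
      · simp
      · rw [← two_mul, ← Nat.cast_ofNat (R := ZMod (2 * h)) (n := 2), ← Nat.cast_mul, ZMod.natCast_self]
  show Nat.card ({k : ZMod (2 * h) | k + k = 0} : Set _) = 2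
  rw [hset, Nat.card_coe_set_eq, Set.ncard_pair]
  intro e
  have := congrArg ZMod.val e
  rw [ZMod.val_zero, ZMod.val_natCast, Nat.mod_eq_of_lt (by omega)] at this
  omega

theorem card_quaternion (hh : 0 < h) : Nat.card (QuaternionGroup h) = 4 * h := by
  have : NeZero h := ⟨by omega⟩
  rw [Nat.card_eq_fintype_card, QuaternionGroup.card]

/-- The generalised quaternion group `QuaternionGroup h` has `h + 3` classes. -/
theorem card_conjClasses_quaternion (hh : 0 < h) :
    Nat.card (ConjClasses (QuaternionGroup h)) = h + 3 := by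
  classical
  have : NeZero h := ⟨by omega⟩
  have : NeZero (2 * h) := ⟨by omega⟩
  let K := {k : ZMod (2 * h) // k + k = 0}
  let Z := ZMod (2 * h)
  have hP : ∀ p : QuaternionGroup h × QuaternionGroup h, Commute p.1 p.2 ↔
      match p with
      | (.a _, .a _) => True
      | (.a i, .xa _) => i + i = 0
      | (.xa _, .a j) => j + j = 0
      | (.xa i, .xa j) => (j - i) + (j - i) = 0 := by
    rintro ⟨i | i, j | j⟩ <;>
      simp only [commute_iff_eq, QuaternionGroup.a_mul_a, QuaternionGroup.a_mul_xa,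
        QuaternionGroup.xa_mul_a, QuaternionGroup.xa_mul_xa, QuaternionGroup.a.injEq,
        QuaternionGroup.xa.injEq]
    · simp [add_comm]
    · constructor <;> intro e <;> linear_combination (-1 : ℤ) • e
    · constructor <;> intro e <;> linear_combination (1 : ℤ) • e
    · constructor <;> intro e <;> linear_combination (1 : ℤ) • e
  let e : {p : QuaternionGroup h × QuaternionGroup h // Commute p.1 p.2} ≃
      ((Z × Z) ⊕ (K × Z)) ⊕ ((Z × K) ⊕ (Z × K)) :=
    { toFun := fun p => match p with
        | ⟨(.a i, .a j), _⟩ => .inl (.inl (i, j))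
        | ⟨(.a i, .xa j), hp⟩ => .inl (.inr (⟨i, (hP _).1 hp⟩, j))
        | ⟨(.xa i, .a j), hp⟩ => .inr (.inl (i, ⟨j, (hP _).1 hp⟩))
        | ⟨(.xa i, .xa j), hp⟩ => .inr (.inr (i, ⟨j - i, (hP _).1 hp⟩))
      invFun := fun s => match s with
        | .inl (.inl (i, j)) => ⟨(.a i, .a j), (hP _).2 trivial⟩
        | .inl (.inr (⟨i, hi⟩, j)) => ⟨(.a i, .xa j), (hP _).2 hi⟩
        | .inr (.inl (i, ⟨j, hj⟩)) => ⟨(.xa i, .a j), (hP _).2 hj⟩
        | .inr (.inr (i, ⟨k, hk⟩)) => ⟨(.xa i, .xa (i + k)), (hP _).2 (by simpa using hk)⟩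
      left_inv := by
        rintro ⟨⟨i | i, j | j⟩, hp⟩ <;> simp
      right_inv := by
        rintro ((⟨i, j⟩ | ⟨⟨i, hi⟩, j⟩) | (⟨i, ⟨j, hj⟩⟩ | ⟨i, ⟨k, hk⟩⟩)) <;> simp }
  have hc := card_comm_eq_card_conjClasses_mul_card (QuaternionGroup h)
  rw [Nat.card_congr e, Nat.card_sum, Nat.card_sum, Nat.card_sum, Nat.card_prod, Nat.card_prod,
    Nat.card_prod, card_two_torsion hh, Nat.card_zmod, card_quaternion hh] at hc
  apply Nat.eq_of_mul_eq_mul_right (show 0 < 4 * h by omega)
  rw [← hc]
  ring

/-- A group generated in dicyclic fashion by a cyclic subgroup and an inverting element is the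
generalised quaternion group; hence its order and class number. -/
theorem dicyclic_card {G : Type*} [Group G] {c w : G} (hh : 0 < h) (hc : orderOf c = 2 * h)
    (hwc : w * c * w⁻¹ = c⁻¹) (hww : w ^ 2 = c ^ h) (hw : w ∉ Subgroup.zpowers c)
    (hall : ∀ x : G, x ∈ Subgroup.zpowers c ∨ w⁻¹ * x ∈ Subgroup.zpowers c) :
    Nat.card G = 4 * h ∧ Nat.card (ConjClasses G) = h + 3 := by
  classical
  have : NeZero (2 * h) := ⟨by omega⟩
  let f : ZMod (2 * h) → G := fun i => c ^ i.val
  have hmod : ∀ a b : ℕ, c ^ a = c ^ b ↔ a ≡ b [MOD 2 * h] := fun a b => by rw [pow_eq_pow_iff_modEq, hc]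
  have fadd : ∀ i j, f (i + j) = f i * f j := fun i j => by
    simp only [f, ← pow_add, hmod, ZMod.val_add]
    exact Nat.mod_modEq _ _
  have f0 : f 0 = 1 := by simp [f]
  have fneg : ∀ i, f (-i) = (f i)⁻¹ := fun i =>
    eq_inv_of_mul_eq_one_left (by rw [← fadd, neg_add_cancel, f0])
  have fw : ∀ i, f i * w = w * f (-i) := fun i => by
    have h1 : w * f i * w⁻¹ = (f i)⁻¹ := by
      show w * c ^ i.val * w⁻¹ = (c ^ i.val)⁻¹
      rw [← inv_pow, ← hwc]
      exact (conj_pow ..).symm
    have h2 := congrArg (·⁻¹) h1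
    simp only [mul_inv_rev, inv_inv] at h2
    rw [fneg]
    calc f i * w = (w * ((f i)⁻¹ * w⁻¹)) * w := by rw [h2]
      _ = w * (f i)⁻¹ := by group
  have fh : f h = w * w := by
    rw [← pow_two, hww]
    simp only [f, ZMod.val_natCast, hmod]
    exact Nat.mod_modEq _ _
  have fmem : ∀ i, f i ∈ Subgroup.zpowers c := fun i => Subgroup.npow_mem_zpowers c _
  have finj : Function.Injective f := fun i j e => by
    have e' := (hmod _ _).1 e
    rw [← ZMod.natCast_eq_natCast_iff, ZMod.natCast_zmod_val, ZMod.natCast_zmod_val] at e'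
    exact e'
  have fsurj : ∀ x ∈ Subgroup.zpowers c, ∃ i, f i = x := fun x hx => by
    have hfin : IsOfFinOrder c := orderOf_pos_iff.1 (by omega)
    obtain ⟨m, rfl⟩ := hfin.mem_zpowers_iff_mem_range_orderOf.1 hx |> fun hm => by
      simp only [Finset.mem_image, Finset.mem_range] at hm
      exact (⟨hm.choose, hm.choose_spec.2⟩ : ∃ m : ℕ, c ^ m = x)
    exact ⟨m, by simp only [f, ZMod.val_natCast, hmod]; exact Nat.mod_modEq _ _⟩
  let φ : QuaternionGroup h → G := fun x => match x with
    | .a i => f i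
    | .xa i => w * f i
  have hmul : ∀ x y, φ (x * y) = φ x * φ y := by
    rintro (i | i) (j | j) <;> simp only [QuaternionGroup.a_mul_a, QuaternionGroup.a_mul_xa,
      QuaternionGroup.xa_mul_a, QuaternionGroup.xa_mul_xa, φ]
    · exact fadd i j
    · rw [← mul_assoc (f i), fw, mul_assoc, ← fadd]; ring_nf
    · rw [mul_assoc, ← fadd]
    · rw [show w * f i * (w * f j) = w * ((f i * w) * f j) by group, fw, mul_assoc w (f (-i)), ← fadd,
        ← mul_assoc, ← fh, ← fadd]
      ring_nf
  have hbij : Function.Bijective φ := by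
    constructor
    · rintro (i | i) (j | j) e <;> simp only [φ] at e
      · exact congrArg _ (finj e)
      · refine absurd ?_ hw
        have : w = f i * (f j)⁻¹ := by rw [e]; group
        rw [this]
        exact mul_mem (fmem i) (inv_mem (fmem j))
      · refine absurd ?_ hw
        have : w = f j * (f i)⁻¹ := by rw [← e]; group
        rw [this]
        exact mul_mem (fmem j) (inv_mem (fmem i))
      · exact congrArg _ (finj (mul_left_cancel e))
    · intro x
      rcases hall x with hx | hx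
      · obtain ⟨i, hi⟩ := fsurj x hx; exact ⟨.a i, hi⟩
      · obtain ⟨i, hi⟩ := fsurj _ hx; exact ⟨.xa i, by simp [φ, hi]⟩
  let E : QuaternionGroup h ≃* G := MulEquiv.ofBijective (MonoidHom.mk' φ hmul) hbij
  refine ⟨by rw [← Nat.card_congr E.toEquiv, card_quaternion hh], ?_⟩
  rw [← card_conjClasses_quaternion hh]
  refine (Nat.card_congr (Equiv.ofBijective (ConjClasses.map E.toMonoidHom) ⟨?_, ?_⟩)).symm
  · intro a b
    induction a using Quotient.inductionOn
    induction b using Quotient.inductionOn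
    intro e
    obtain ⟨g, hg⟩ := isConj_iff.1 (ConjClasses.mk_eq_mk_iff_isConj.1 e)
    exact ConjClasses.mk_eq_mk_iff_isConj.2 (isConj_iff.2 ⟨E.symm g, E.injective (by simpa using hg)⟩)
  · intro a
    obtain ⟨g, rfl⟩ := ConjClasses.mk_surjective a
    exact ⟨ConjClasses.mk (E.symm g), congrArg ConjClasses.mk (E.apply_symm_apply g)⟩

end CfsgLib.SL2Tori
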