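import Cfsg.Agent.Lib.SL2Tori.Sylow
import Cfsg.Agent.Lib.SpecLin.SLTwoTrace
import Cfsg.Agent.Lib.Coprime.Basic

/-!
Redundant Sylow subgroups of `SL_2(q)`.
-/

set_option autoImplicit false

namespace CfsgLib.SL2Tori

open Matrix

/-- Every element of `p`-power order lies in a Sylow subgroup other than the given one. -/
def HasRedundant (G : Type*) [Group G] (p : ℕ) : Prop :=
  ∃ Q : Sylow p G, ∀ x : G, (∃ k : ℕ, orderOf x = p ^ k) → ∃ P : Sylow p G, P ≠ Q ∧ x ∈ P

theorem not_hasRedundant_of_unique {G : Type*} [Group G] [Finite G] {p : ℕ} [Fact p.Prime] {x : G}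
    (hx : ∃ k : ℕ, orderOf x = p ^ k) (P : Sylow p G) (hP : ∀ R : Sylow p G, x ∈ R → R = P) :
    ¬ HasRedundant G p := by
  rintro ⟨Q, hQ⟩
  obtain ⟨g, hg⟩ := MulAction.exists_smul_eq G P Q
  obtain ⟨R, hR, hxR⟩ := hQ (g * x * g⁻¹) (by
    obtain ⟨k, hk⟩ := hx
    exact ⟨k, by rw [show g * x * g⁻¹ = MulAut.conj g x from rfl, MulEquiv.orderOf_eq, hk]⟩)
  apply hR
  have h := hP (g⁻¹ • R) (by
    show x ∈ ((g⁻¹ • R : Sylow p G) : Subgroup G)
    rw [Sylow.coe_subgroup_smul, Coprime.mem_conj_smul, inv_inv]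
    exact hxR)
  rw [← hg, ← h, smul_inv_smul]

/-- Redundancy passes through quotients by central subgroups. -/
theorem hasRedundant_iff_of_central {G H : Type*} [Group G] [Finite G] [Group H] [Finite H]
    (f : G →* H) (hf : Function.Surjective f) (hZ : f.ker ≤ Subgroup.center G) (p : ℕ)
    [Fact p.Prime] : HasRedundant G p ↔ HasRedundant H p := by
  have hnorm : ∀ (R : Sylow p G) (y : G), f y ∈ (R : Subgroup G).map f →
      y ∈ Subgroup.normalizer ((R : Subgroup G) : Set G) := by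
    rintro R y ⟨r, hr, he⟩
    have hz : r⁻¹ * y ∈ Subgroup.center G := hZ (by
      rw [MonoidHom.mem_ker, map_mul, map_inv, he, inv_mul_cancel])
    have hy : y = r * (r⁻¹ * y) := by group
    rw [hy]
    exact mul_mem (Subgroup.le_normalizer hr) (Subgroup.center_le_normalizer _ hz)
  have habsorb : ∀ (R : Sylow p G) (y : G), (∃ k : ℕ, orderOf y = p ^ k) →
      f y ∈ (R : Subgroup G).map f → y ∈ R := by
    intro R y hy h
    obtain ⟨k, hk⟩ := hy
    have hsup := IsPGroup.to_sup_of_normal_right'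
      (IsPGroup.of_card (p := p) (n := k) (show Nat.card ↥(Subgroup.zpowers y) = p ^ k by
        rw [Nat.card_zpowers, hk])) R.isPGroup' (Subgroup.zpowers_le.2 (hnorm R y h))
    have h' := R.is_maximal' hsup le_sup_right
    show y ∈ (R : Subgroup G)
    rw [← h']
    exact Subgroup.mem_sup_left (Subgroup.mem_zpowers y)
  have hinj : ∀ P R : Sylow p G, P.mapSurjective hf = R.mapSurjective hf → P = R := by
    intro P R h
    have h' : (P : Subgroup G).map f = (R : Subgroup G).map f := by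
      have := congrArg (fun S : Sylow p H => (S : Subgroup H)) h
      exact this
    refine Sylow.ext (P.is_maximal' R.isPGroup' fun y hy => ?_).symm
    refine habsorb R y ?_ (h' ▸ Subgroup.mem_map_of_mem f hy)
    obtain ⟨k, hk⟩ := IsPGroup.iff_orderOf.1 P.isPGroup' ⟨y, hy⟩
    exact ⟨k, by rwa [Subgroup.orderOf_mk] at hk⟩
  have hmem : ∀ (P : Sylow p G) (y : G), y ∈ P → f y ∈ P.mapSurjective hf := fun P y hy =>
    Subgroup.mem_map_of_mem f hy
  have hsurj := Sylow.mapSurjective_surjective hf p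
  constructor
  · rintro ⟨Q, hQ⟩
    refine ⟨Q.mapSurjective hf, fun u hu => ?_⟩
    obtain ⟨k, hk⟩ := hu
    obtain ⟨S, hS⟩ := (IsPGroup.of_card (p := p) (n := k)
      (show Nat.card ↥(Subgroup.zpowers u) = p ^ k by rw [Nat.card_zpowers, hk])).exists_le_sylow
    obtain ⟨P, rfl⟩ := hsurj S
    obtain ⟨x, hx, he⟩ := hS (Subgroup.mem_zpowers u)
    have hxo : ∃ k : ℕ, orderOf x = p ^ k := by
      obtain ⟨j, hj⟩ := IsPGroup.iff_orderOf.1 P.isPGroup' ⟨x, hx⟩
      exact ⟨j, by rwa [Subgroup.orderOf_mk] at hj⟩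
    obtain ⟨R, hR, hxR⟩ := hQ x hxo
    exact ⟨R.mapSurjective hf, fun e => hR (hinj R Q e), he ▸ hmem R x hxR⟩
  · rintro ⟨Q', hQ'⟩
    obtain ⟨Q, rfl⟩ := hsurj Q'
    refine ⟨Q, fun x hx => ?_⟩
    obtain ⟨k, hk⟩ := hx
    obtain ⟨j, -, hj⟩ := (Nat.dvd_prime_pow (Fact.out : p.Prime)).1 (hk ▸ orderOf_map_dvd f x)
    obtain ⟨R', hR', hxR⟩ := hQ' (f x) ⟨j, hj⟩
    obtain ⟨R, rfl⟩ := hsurj R'
    exact ⟨R, fun e => hR' (by rw [e]), habsorb R x ⟨k, hk⟩ hxR⟩

variable {F : Type*} [Field F] [Fintype F]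

local notation "SL2" => Matrix.SpecialLinearGroup (Fin 2) F
local notation "M2" => Matrix (Fin 2) (Fin 2) F

/-- When no non-trivial `p`-element is scalar, Sylow `p`-subgroups intersect trivially. -/
theorem not_hasRedundant_of_no_scalar (p : ℕ) [Fact p.Prime]
    (h : ∀ g : SL2, (∃ k : ℕ, g ^ p ^ k = 1) → (g : M2) = -1 → g = 1) :
    ¬ HasRedundant SL2 p := by
  classical
  obtain ⟨P⟩ : Nonempty (Sylow p SL2) := inferInstance
  by_cases hP1 : (P : Subgroup SL2) = ⊥
  · refine not_hasRedundant_of_unique (x := 1) ⟨0, by rw [orderOf_one, pow_zero]⟩ P fun R _ => ?_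
    refine Sylow.ext ?_
    rw [hP1]
    apply Subgroup.eq_bot_of_card_eq
    rw [R.card_eq_multiplicity, ← P.card_eq_multiplicity, hP1, Subgroup.card_bot]
  have hns : ∀ R : Sylow p SL2, ∀ z ∈ R, z ≠ 1 → ∀ s : F, (z : M2) ≠ s • 1 := by
    intro R z hz hz1 s e
    rcases scalar_cases e with e1 | e1
    · exact hz1 (eq_one_of_coe e1)
    · obtain ⟨k, hk⟩ := R.isPGroup' ⟨z, hz⟩
      exact hz1 (h z ⟨k, congrArg Subtype.val hk⟩ e1)
  -- Sylow subgroups are abelian
  have hab : ∀ R : Sylow p SL2, ∀ a ∈ R, ∀ b ∈ R, a * b = b * a := by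
    intro R a ha b hb
    by_cases ha1 : a = 1
    · rw [ha1, one_mul, mul_one]
    haveI : Nontrivial ↥(R : Subgroup SL2) := ⟨⟨⟨a, ha⟩, 1, fun e => ha1 (congrArg Subtype.val e)⟩⟩
    haveI := R.isPGroup'.center_nontrivial
    obtain ⟨z, hz⟩ := exists_ne (1 : ↥(Subgroup.center ↥(R : Subgroup SL2)))
    have hz1 : ((z : ↥(R : Subgroup SL2)) : SL2) ≠ 1 := fun e => hz (Subtype.ext (Subtype.ext e))
    have hzc : ∀ y ∈ R, y * ((z : ↥(R : Subgroup SL2)) : SL2) = ((z : ↥(R : Subgroup SL2)) : SL2) * y :=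
      fun y hy => congrArg Subtype.val (Subgroup.mem_center_iff.1 z.2 ⟨y, hy⟩)
    exact Subtype.ext (by
      rw [Matrix.SpecialLinearGroup.coe_mul, Matrix.SpecialLinearGroup.coe_mul]
      by_cases hb1 : b = 1
      · subst hb1; simp
      exact comm_trans (hns R b hb hb1) (hns R _ (z : ↥(R : Subgroup SL2)).2 hz1)
        (coe_comm (hzc b hb).symm) (coe_comm (hzc a ha)))
  obtain ⟨x, hx, hx1⟩ : ∃ x ∈ (P : Subgroup SL2), x ≠ 1 := by
    obtain ⟨x, hx⟩ := Subgroup.ne_bot_iff_exists_ne_one.1 hP1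
    exact ⟨x, x.2, fun e => hx (Subtype.ext e)⟩
  obtain ⟨k, hk⟩ := IsPGroup.iff_orderOf.1 P.isPGroup' ⟨x, hx⟩
  refine not_hasRedundant_of_unique (x := x) ⟨k, by rwa [Subgroup.orderOf_mk] at hk⟩ P fun R hR => ?_
  refine Sylow.ext ?_
  have hnorm : (R : Subgroup SL2) ≤ Subgroup.normalizer ((P : Subgroup SL2) : Set SL2) := by
    refine Subgroup.le_normalizer_iff.2 fun a ha b hb => ?_
    have hc : a * b = b * a := Subtype.ext (by
      rw [Matrix.SpecialLinearGroup.coe_mul, Matrix.SpecialLinearGroup.coe_mul]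
      by_cases hb1 : b = 1
      · subst hb1; simp
      exact comm_trans (hns P b hb hb1) (hns P x hx hx1) (coe_comm (hab P x hx b hb))
        (coe_comm (hab R a ha x hR)))
    rw [hc, mul_inv_cancel_right]
    exact hb
  have hsup := IsPGroup.to_sup_of_normal_right' R.isPGroup' P.isPGroup' hnorm
  exact (R.is_maximal' hsup le_sup_left).symm.trans (P.is_maximal' hsup le_sup_right)

/-- Odd `q`, `p = 2`, `q ± 1` a power of 2. -/
theorem not_hasRedundant_two (hodd : Odd (Fintype.card F))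
    (hpow : (∃ k : ℕ, Fintype.card F + 1 = 2 ^ k) ∨ ∃ k : ℕ, Fintype.card F = 2 ^ k + 1) :
    haveI := Fact.mk Nat.prime_two; ¬ HasRedundant SL2 2 := by
  haveI := Fact.mk Nat.prime_two
  classical
  obtain ⟨c, h, m, T, hG, hm, he, hq⟩ := exists_two_torus (F := F) hodd
  obtain ⟨s, hs⟩ : ∃ s, 2 * h = 2 ^ s := by
    obtain ⟨j, hj⟩ := he
    rcases hpow with ⟨k, hk⟩ | ⟨k, hk⟩ <;> rcases hq with hq | hq
    · rcases k with _ | _ | k
      · exact absurd hk (by have := Fintype.one_lt_card (α := F); rw [pow_zero]; omega)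
      · exact absurd hk (by have := Fintype.one_lt_card (α := F); rw [pow_one]; omega)
      · rw [pow_succ, pow_succ] at hk; omega
    · exact ⟨k, by omega⟩
    · refine ⟨k, ?_⟩
      rw [hk, Nat.add_sub_cancel] at hq
      exact hq.symm
    · rcases k with _ | _ | k
      · rw [pow_zero] at hk; rw [hk] at hodd; exact absurd hodd (by decide)
      · refine ⟨2, ?_⟩; rw [pow_one] at hk; norm_num; omega
      · rw [pow_succ, pow_succ] at hk; omega
  obtain ⟨P, hP⟩ := (IsPGroup.of_card (p := 2) (n := s)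
    (show Nat.card ↥(Subgroup.zpowers c) = 2 ^ s by rw [T.card_torus, hs])).exists_le_sylow
  refine not_hasRedundant_of_unique (x := c) ⟨s, by rw [T.order, hs]⟩ P fun R hR => ?_
  have key : ∀ R : Sylow 2 SL2, c ∈ R →
      (R : Subgroup SL2) = Subgroup.normalizer (Subgroup.zpowers c : Set SL2) := by
    intro R hR
    have hfac : (Nat.card SL2).factorization 2 = s + 1 := by
      rw [hG, show 4 * h * m = 2 ^ (s + 1) * m by rw [pow_succ, ← hs]; ring,
        Nat.factorization_mul (by positivity) (by obtain ⟨u, hu⟩ := hm; omega)]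
      simp [Nat.Prime.factorization_pow Nat.prime_two, Nat.factorization_eq_zero_of_not_dvd
        (show ¬ 2 ∣ m by obtain ⟨u, hu⟩ := hm; omega)]
    have hcR : Nat.card ↥(R : Subgroup SL2) = 4 * h := by
      rw [R.card_eq_multiplicity, hfac, pow_succ, ← hs]; ring
    have hle : Subgroup.zpowers c ≤ (R : Subgroup SL2) := Subgroup.zpowers_le.2 hR
    have hidx : ((Subgroup.zpowers c).subgroupOf (R : Subgroup SL2)).index = 2 := by
      have h1 := ((Subgroup.zpowers c).subgroupOf (R : Subgroup SL2)).card_mul_index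
      rw [Nat.card_congr (Subgroup.subgroupOfEquivOfLe hle).toEquiv, T.card_torus, hcR] at h1
      refine Nat.eq_of_mul_eq_mul_left (show 0 < 2 * h by have := T.two_le; omega) ?_
      rw [h1]; ring
    haveI := Subgroup.normal_of_index_eq_two hidx
    refine Subgroup.eq_of_le_of_card_ge
      ((Subgroup.normal_subgroupOf_iff_le_normalizer hle).1 inferInstance) ?_
    rw [hcR, T.normalizer_card.1]
  exact Sylow.ext ((key R hR).trans (key P (hP (Subgroup.mem_zpowers c))).symm)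

/-- Odd `q`, `q ± 1` not a power of 2: there is a redundant Sylow 2-subgroup. -/
theorem hasRedundant_two (hodd : Odd (Fintype.card F))
    (h1 : ¬ ∃ k : ℕ, Fintype.card F + 1 = 2 ^ k) (h2 : ¬ ∃ k : ℕ, Fintype.card F = 2 ^ k + 1) :
    HasRedundant SL2 2 := by
  haveI := Fact.mk Nat.prime_two
  classical
  obtain ⟨S⟩ : Nonempty (Sylow 2 SL2) := inferInstance
  obtain ⟨c, h, m, T, hG, hm, he, hq, hle⟩ := exists_two_torus_ge hodd S
  obtain ⟨ℓ, hℓ, hℓd, hℓ2⟩ : ∃ ℓ, ℓ.Prime ∧ ℓ ∣ 2 * h ∧ ℓ ≠ 2 := by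
    by_contra hcon
    push Not at hcon
    have hpos : 2 * h ≠ 0 := by have := T.two_le; omega
    have e := Nat.eq_prime_pow_of_unique_prime_dvd hpos fun {d} hd hdd => hcon d hd hdd
    rcases hq with hq | hq
    · exact h2 ⟨_, by rw [← e, ← hq]; have := Fintype.one_lt_card (α := F); omega⟩
    · exact h1 ⟨_, hq.trans e⟩
  haveI := Fact.mk hℓ
  obtain ⟨t0, ht0⟩ := exists_prime_orderOf_dvd_card' (G := ↥(Subgroup.zpowers c)) ℓ
    (by rw [T.card_torus]; exact hℓd)
  set t : SL2 := (t0 : SL2) with htdef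
  have hto : orderOf t = ℓ := by rw [htdef, Subgroup.orderOf_coe, ht0]
  obtain ⟨y, hyS, hyc⟩ := exists_outside T S hle hG
  have htS : t • S ≠ S := by
    intro e
    have hmem : t * y * t⁻¹ ∈ (S : Subgroup SL2) := by
      rw [← e, Sylow.coe_subgroup_smul, Coprime.mem_conj_smul]
      simpa [mul_assoc] using hyS
    have h2t : t * t ∈ (S : Subgroup SL2) := by
      have hinv := T.conj_eq_inv (hle hyS) hyc (inv_mem t0.2)
      rw [inv_inv] at hinv
      have : t * t = t * y * t⁻¹ * y⁻¹ := by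
        calc t * t = t * (y * t⁻¹ * y⁻¹) := by rw [hinv]
          _ = _ := by group
      rw [this]
      exact mul_mem hmem (inv_mem hyS)
    obtain ⟨j, hj⟩ := S.isPGroup' ⟨_, h2t⟩
    have hj' : (t * t) ^ 2 ^ j = 1 := congrArg Subtype.val hj
    rw [← pow_two, ← pow_mul, ← pow_succ'] at hj'
    have hd := hto ▸ orderOf_dvd_of_pow_eq_one hj'
    exact hℓ2 ((Nat.prime_dvd_prime_iff_eq hℓ Nat.prime_two).1 (hℓ.dvd_of_dvd_pow hd))
  have hfix : ∀ x ∈ (S : Subgroup SL2), x ∈ Subgroup.zpowers c → x ∈ t • S := by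
    intro x hx hxc
    show x ∈ ((t • S : Sylow 2 SL2) : Subgroup SL2)
    rw [Sylow.coe_subgroup_smul, Coprime.mem_conj_smul]
    obtain ⟨i, hi⟩ := Subgroup.mem_zpowers_iff.1 hxc
    obtain ⟨j, hj⟩ := Subgroup.mem_zpowers_iff.1 t0.2
    have hc : t * x = x * t := by
      rw [← hi, htdef, ← hj]; exact (Commute.zpow_zpow_self c j i).eq
    rw [mul_assoc, ← hc, inv_mul_cancel_left]
    exact hx
  refine ⟨S, fun x hx => ?_⟩
  obtain ⟨k, hk⟩ := hx
  obtain ⟨R, hR⟩ := (IsPGroup.of_card (p := 2) (n := k)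
    (show Nat.card ↥(Subgroup.zpowers x) = 2 ^ k by rw [Nat.card_zpowers, hk])).exists_le_sylow
  by_cases hRS : R = S
  swap
  · exact ⟨R, hRS, hR (Subgroup.mem_zpowers x)⟩
  have hxS : x ∈ (S : Subgroup SL2) := hRS ▸ hR (Subgroup.mem_zpowers x)
  by_cases hxc : x ∈ Subgroup.zpowers c
  · exact ⟨t • S, htS, hfix x hxS hxc⟩
  -- an element of the coset is conjugate to an element of order 4 of the torus
  obtain ⟨a, haS, hac, haa, ha1, ha2⟩ := exists_order_four T S hle he
  have hxx : x * x ∈ Subgroup.zpowers c := by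
    apply T.comm_mem
    have e := T.conj_eq_inv (hle hxS) hxc (Subgroup.mem_zpowers c)
    calc x * x * c = x * (x * c * x⁻¹) * x := by group
      _ = x * c⁻¹ * x := by rw [e]
      _ = (x * c * x⁻¹)⁻¹ * (x * x) := by group
      _ = c * (x * x) := by rw [e, inv_inv]
  have hneg : ((-1 : SL2) : M2) = -1 := by simp
  have hch : c ^ h = (-1 : SL2) := Subtype.ext (by rw [T.pow_h, hneg])
  have hx4 : (x * x) * (x * x) = 1 := by
    have e := T.conj_eq_inv (hle hxS) hxc hxx
    rw [show x * (x * x) * x⁻¹ = x * x by group] at e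
    exact eq_inv_iff_mul_eq_one.1 e
  have hx2 : (x : M2) * x = -1 := by
    rw [← Matrix.SpecialLinearGroup.coe_mul]
    refine (sq_eq_one_cases T.two_ne (by rw [pow_two, hx4])).resolve_left fun e => hxc ?_
    rcases sq_eq_one_cases T.two_ne (show x ^ 2 = 1 from by
      rw [pow_two]; exact eq_one_of_coe e) with e' | e'
    · rw [eq_one_of_coe e']; exact one_mem _
    · rw [show x = c ^ h from Subtype.ext (by rw [T.pow_h, e'])]
      exact Subgroup.npow_mem_zpowers c h
  have htr : ∀ g : SL2, (g : M2) * g = -1 → (g : M2).trace = 0 := by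
    intro g hg
    have hd : ((g : M2)).det = 1 := g.prop
    have e : (g : M2) * g = (g : M2).trace • (g : M2) - (g : M2).det • 1 := by
      generalize (g : M2) = A
      ext i j
      fin_cases i <;> fin_cases j <;> simp [Matrix.mul_apply, Fin.sum_univ_two, Matrix.det_fin_two, Matrix.trace_fin_two, Matrix.one_apply] <;> ring
    rw [hg, hd, one_smul, eq_comm, sub_eq_neg_self, smul_eq_zero] at e
    refine e.resolve_right fun e0 => ?_
    rw [e0] at hd
    simp at hd
  have h4 : (4 : F) ≠ 0 := by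
    rw [show (4 : F) = 2 * 2 by norm_num]; exact mul_ne_zero T.two_ne T.two_ne
  obtain ⟨g, hg⟩ := isConj_iff.1 (SpecLin.SLTwo.isConj_of_trace_eq (M := a) (N := x)
    (Or.inr (by rw [htr a haa, zero_pow two_ne_zero]; exact h4.symm))
    (nonscalar_iff.2 ⟨ha1, ha2⟩)
    (nonscalar_iff.2 ⟨fun e => hxc (by rw [eq_one_of_coe e]; exact one_mem _), fun e => hxc (by
      rw [show x = c ^ h from Subtype.ext (by rw [T.pow_h, e])]
      exact Subgroup.npow_mem_zpowers c h)⟩)
    (by rw [htr a haa, htr x hx2]))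
  have hin : ∀ U : Sylow 2 SL2, a ∈ U → x ∈ g • U := fun U hU => by
    show x ∈ ((g • U : Sylow 2 SL2) : Subgroup SL2)
    rw [Sylow.coe_subgroup_smul, Coprime.mem_conj_smul, ← hg]
    simpa [mul_assoc] using (show a ∈ (U : Subgroup SL2) from hU)
  by_cases hgS : g • S = S
  · exact ⟨g • t • S, fun e => htS (MulAction.injective g (e.trans hgS.symm)),
      hin _ (hfix a haS hac)⟩
  · exact ⟨g • S, hgS, hin S haS⟩

/-- The classification of `SL_2(q)` with a redundant Sylow subgroup. -/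
theorem hasRedundant_iff (p : ℕ) [Fact p.Prime] :
    HasRedundant SL2 p ↔ (p = 2 ∧ (¬ ∃ k : ℕ, Fintype.card F + 1 = 2 ^ k) ∧
      (¬ ∃ k : ℕ, Fintype.card F = 2 ^ k) ∧ ¬ ∃ k : ℕ, Fintype.card F = 2 ^ k + 1) := by
  classical
  have hprime : p.Prime := Fact.out
  obtain ⟨n, hn, hc⟩ := FiniteField.card F (ringChar F)
  constructor
  · intro hR
    have hp2 : p = 2 := by
      by_contra hp
      refine not_hasRedundant_of_no_scalar p (fun g hg e => ?_) hR
      obtain ⟨k, hk⟩ := hg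
      have h2 : g ^ 2 = 1 := eq_one_of_coe (by rw [Matrix.SpecialLinearGroup.coe_pow, e]; simp)
      have := pow_gcd_eq_one.2 ⟨h2, hk⟩
      rwa [Nat.Coprime.gcd_eq_one (Nat.Coprime.pow_right _ ((Nat.coprime_primes Nat.prime_two hprime).2
        (Ne.symm hp))), pow_one] at this
    subst hp2
    have hnot : ¬ ∃ k : ℕ, Fintype.card F = 2 ^ k := by
      rintro ⟨k, hk⟩
      refine not_hasRedundant_of_no_scalar 2 (fun g _ e => ?_) hR
      have h2 : (2 : F) = 0 := by
        have h0 : ((Fintype.card F : ℕ) : F) = 0 := FiniteField.cast_card_eq_zero F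
        rw [hk, Nat.cast_pow] at h0
        exact_mod_cast eq_zero_of_pow_eq_zero h0
      refine eq_one_of_coe (e.trans ?_)
      ext i j
      rw [Matrix.neg_apply, neg_eq_iff_add_eq_zero, ← two_mul, h2, zero_mul]
    have hodd : Odd (Fintype.card F) := by
      rw [hc]
      refine (hn.odd_of_ne_two fun e => hnot ⟨n, by rw [hc, e]⟩).pow
    refine ⟨rfl, fun h => ?_, hnot, fun h => ?_⟩
    · exact not_hasRedundant_two hodd (Or.inl h) hR
    · exact not_hasRedundant_two hodd (Or.inr h) hR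
  · rintro ⟨rfl, h1, hnot, h2⟩
    have hodd : Odd (Fintype.card F) := by
      rw [hc]
      refine (hn.odd_of_ne_two fun e => hnot ⟨n, by rw [hc, e]⟩).pow
    exact hasRedundant_two hodd h1 h2

end CfsgLib.SL2Tori
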