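import Cfsg.Agent.Lib.SL2Tori.Basic
import Cfsg.Agent.Lib.Schur.SLTwo
import Cfsg.Agent.Lib.Recog.PGL2Spectrum

/-!
The split and non-split tori of `SL_2(q)`, `q` odd.
-/

set_option autoImplicit false

namespace CfsgLib.SL2Tori

open Matrix
open CfsgLib.Schur

variable {F : Type*} [Field F]

local notation "SL2" => Matrix.SpecialLinearGroup (Fin 2) F
local notation "M2" => Matrix (Fin 2) (Fin 2) F

/-- The trace of `g` gives a characteristic polynomial without roots. -/
def NoRoot (g : M2) : Prop := ¬ IsSquare (g.trace ^ 2 - 4)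

theorem noRoot_of_noEig (h2 : (2 : F) ≠ 0) {g : SL2}
    (h : ∀ (c : F) (v : Fin 2 → F), v ≠ 0 → (g : M2).mulVec v ≠ c • v) : NoRoot (g : M2) := by
  rintro ⟨r, hr⟩
  have hd : ((g : M2)).det = 1 := g.prop
  rw [Matrix.det_fin_two] at hd
  rw [Matrix.trace_fin_two] at hr
  set a := (g : M2) 0 0; set b := (g : M2) 0 1; set c := (g : M2) 1 0; set d := (g : M2) 1 1
  have hzero : ((g : M2) - ((a + d + r) / 2) • 1).det = 0 := by
    simp only [Matrix.det_fin_two, Matrix.sub_apply, Matrix.smul_apply, Matrix.one_apply_eq, ne_eq,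
      zero_ne_one, not_false_eq_true, Matrix.one_apply_ne, smul_eq_mul, mul_one, mul_zero, sub_zero,
      one_ne_zero]
    show (a - (a + d + r) / 2) * (d - (a + d + r) / 2) - b * c = 0
    field_simp
    linear_combination 4 * hd - hr
  obtain ⟨v, hv, hv2⟩ := Matrix.exists_mulVec_eq_zero_iff.2 hzero
  refine h ((a + d + r) / 2) v hv ?_
  rw [Matrix.sub_mulVec, Matrix.smul_mulVec, Matrix.one_mulVec, sub_eq_zero] at hv2
  exact hv2

theorem NoRoot.trace_ne {g : M2} (h : NoRoot g) : g.trace ^ 2 ≠ 4 := fun e => h (by rw [e, sub_self]; exact IsSquare.zero)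

theorem two_ne_of_odd [Fintype F] (hodd : Odd (Fintype.card F)) : (2 : F) ≠ 0 := by
  intro h0
  have : CharP F 2 := CharTwo.of_one_ne_zero_of_two_eq_zero one_ne_zero h0
  obtain ⟨n, -, hq⟩ := FiniteField.card F 2
  rw [hq, Nat.odd_pow_iff n.ne_zero] at hodd
  exact absurd hodd (by decide)

theorem NoRoot.comb {g : SL2} (h : NoRoot (g : M2)) {M : SL2} {x y : F} (hy : y ≠ 0)
    (hM : (M : M2) = x • 1 + y • (g : M2)) : NoRoot (M : M2) := by
  rintro ⟨r, hr⟩
  refine h ⟨r / y, ?_⟩
  have hdet : x ^ 2 + x * y * (g : M2).trace + y ^ 2 = 1 := by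
    rw [← det_comb x y g.prop, ← hM]; exact M.prop
  rw [hM, trace_comb] at hr
  field_simp
  linear_combination hr - 4 * hdet

variable [Fintype F]

/-- The centralizer of an element without eigenvalues has at most `q + 1` elements. -/
theorem card_centralizer_le (h2 : (2 : F) ≠ 0) {g : SL2} (hg : NoRoot (g : M2)) :
    Nat.card (Subgroup.centralizer ({g} : Set SL2)) ≤ Fintype.card F + 1 := by
  classical
  have hns : ∀ s : F, (g : M2) ≠ s • 1 := fun s e => hg.trace_ne (by
    have hd : ((g : M2)).det = 1 := g.prop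
    rw [e, Matrix.det_smul, Matrix.det_one, mul_one, Fintype.card_fin] at hd
    rw [e, Matrix.trace_smul, Matrix.trace_one, Fintype.card_fin, smul_eq_mul]
    push_cast
    linear_combination (4 : F) * hd)
  have hc : ∀ M : Subgroup.centralizer ({g} : Set SL2), ∃ p : F × F,
      ((M : SL2) : M2) = p.1 • 1 + p.2 • (g : M2) := fun M => by
    obtain ⟨x, y, e⟩ := commutant hns (coe_comm (Subgroup.mem_centralizer_singleton_iff.1 M.2))
    exact ⟨(x, y), e⟩
  choose p hp using hc
  set t := (g : M2).trace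
  have hdet : ∀ M, (p M).1 ^ 2 + (p M).1 * (p M).2 * t + (p M).2 ^ 2 = 1 := fun M => by
    rw [← det_comb _ _ g.prop, ← hp M]; exact (M : SL2).prop
  let f : Subgroup.centralizer ({g} : Set SL2) → Option F := fun M =>
    if (p M).1 + 1 = 0 ∧ (p M).2 = 0 then none
    else some ((p M).2 / ((p M).1 + (p M).2 * t / 2 + 1))
  have hne : ∀ M, ¬ ((p M).1 + 1 = 0 ∧ (p M).2 = 0) → (p M).1 + (p M).2 * t / 2 + 1 ≠ 0 := by
    intro M hM e
    have hy : (p M).2 = 0 := by
      by_contra hy
      refine hg ⟨0, ?_⟩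
      have h1 := hdet M
      have hx : (p M).1 = -1 - (p M).2 * t / 2 := by linear_combination e
      rw [hx] at h1
      field_simp at h1
      have : (p M).2 ^ 2 * (t ^ 2 - 4) = 0 := by linear_combination -h1
      rw [(mul_eq_zero.1 this).resolve_left (pow_ne_zero 2 hy), mul_zero]
    exact hM ⟨by rw [hy] at e; simpa using e, hy⟩
  have hf : Function.Injective f := by
    intro M N e
    have hpe : p M = p N := by
      simp only [f] at e
      split_ifs at e with hM hN hN
      · exact Prod.ext (by linear_combination hM.1 - hN.1) (hM.2.trans hN.2.symm)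
      · have hMn := hne M hM
        have hNn := hne N hN
        have e' := Option.some.inj e
        set u := (p M).1 + (p M).2 * t / 2 with hu
        set v := (p N).1 + (p N).2 * t / 2 with hv
        have h4 : (4 : F) ≠ 0 := by
          rw [show (4 : F) = 2 * 2 by norm_num]; exact mul_ne_zero h2 h2
        have q1 : u ^ 2 - (p M).2 ^ 2 * ((t ^ 2 - 4) / 4) = 1 := by
          rw [hu]; field_simp; linear_combination 16 * hdet M
        have q2 : v ^ 2 - (p N).2 ^ 2 * ((t ^ 2 - 4) / 4) = 1 := by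
          rw [hv]; field_simp; linear_combination 16 * hdet N
        set s := (p M).2 / (u + 1)
        have ym : (p M).2 = s * (u + 1) := (div_mul_cancel₀ _ hMn).symm
        have yn : (p N).2 = s * (v + 1) := by rw [e', div_mul_cancel₀ _ hNn]
        rw [ym] at q1
        rw [yn] at q2
        have k1 : (u + 1) * (u - 1 - s ^ 2 * ((t ^ 2 - 4) / 4) * (u + 1)) = 0 := by linear_combination q1
        have k2 : (v + 1) * (v - 1 - s ^ 2 * ((t ^ 2 - 4) / 4) * (v + 1)) = 0 := by linear_combination q2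
        have k1' := (mul_eq_zero.1 k1).resolve_left hMn
        have k2' := (mul_eq_zero.1 k2).resolve_left hNn
        have hk : (1 - s ^ 2 * ((t ^ 2 - 4) / 4)) * (u - v) = 0 := by linear_combination k1' - k2'
        have huv : u = v := by
          refine sub_eq_zero.1 ((mul_eq_zero.1 hk).resolve_left fun e0 => ?_)
          have : (2 : F) = 0 := by linear_combination -k1' + (u + 1) * e0
          exact h2 this
        have hy : (p M).2 = (p N).2 := by rw [ym, yn, huv]
        refine Prod.ext ?_ hy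
        have := huv
        rw [hu, hv, hy] at this
        exact add_right_cancel this
    exact Subtype.ext (Subtype.ext (by rw [hp, hp, hpe]))
  have := Nat.card_le_card_of_injective f hf
  simpa [Nat.card_eq_fintype_card] using this

/-- A generator of the non-split torus. -/
theorem exists_nonsplit (hodd : Odd (Fintype.card F)) :
    ∃ (c : SL2) (h : ℕ), Fintype.card F + 1 = 2 * h ∧ TorusGen c h ∧ NoRoot (c : M2) := by
  have h2 := two_ne_of_odd hodd
  obtain ⟨c, hc, hw⟩ := exists_nonsplit_torus (F := F)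
  obtain ⟨m, hm⟩ := hodd
  have hq1 := Fintype.one_lt_card (α := F)
  obtain ⟨p, hchar⟩ := CharP.exists F
  obtain ⟨n, hp, hq⟩ := FiniteField.card F p
  have : Fact p.Prime := ⟨hp⟩
  have hp2 : p ≠ 2 := by rintro rfl; exact h2 (CharP.cast_eq_zero F 2)
  have hd : ((c : M2)).det = 1 := c.prop
  have hnr : NoRoot (c : M2) := by
    rcases Recog.PGL2.pow_card_trichotomy hp2 hq (c : M2) with ⟨-, -, e⟩ | ⟨e, -⟩ | ⟨-, -, e⟩
    · exfalso
      have e1 : c ^ Fintype.card F = c := Subtype.ext (by rw [Matrix.SpecialLinearGroup.coe_pow, e])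
      have e2 : c ^ (Fintype.card F - 1) = 1 := by
        refine mul_right_cancel (b := c) ?_
        rw [← pow_succ, Nat.sub_add_cancel hq1.le, e1, one_mul]
      have := orderOf_le_of_pow_eq_one (by omega) e2
      omega
    · rw [hd, mul_one] at e; exact e
    · exfalso
      obtain hs := scalar_cases (g := c ^ p) (s := ((c : M2).trace / 2) ^ p)
        (by rw [Matrix.SpecialLinearGroup.coe_pow, e])
      have e2 : c ^ (p * 2) = 1 := by
        rw [pow_mul, pow_two]
        refine Subtype.ext ?_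
        rw [Matrix.SpecialLinearGroup.coe_mul]
        rcases hs with hs | hs <;> rw [hs] <;> simp
      have hdvd := orderOf_dvd_of_pow_eq_one e2
      rw [hc] at hdvd
      have hcop : Nat.Coprime (Fintype.card F + 1) p := by
        rw [Nat.coprime_comm, hp.coprime_iff_not_dvd]
        intro hdp
        have : p ∣ p ^ (n : ℕ) := dvd_pow_self p n.ne_zero
        rw [← hq] at this
        exact hp.not_dvd_one ((Nat.dvd_add_right this).1 hdp)
      have := Nat.le_of_dvd two_pos (hcop.dvd_of_dvd_mul_left hdvd)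
      omega
  refine ⟨c, m + 1, by omega, ⟨by omega, by omega, h2, hnr.trace_ne, ?_, hw h2 (m + 1) (by omega)⟩, hnr⟩
  refine (Subgroup.eq_of_le_of_card_ge (Subgroup.zpowers_le.2 ?_) ?_).ge
  · rw [Subgroup.mem_centralizer_singleton_iff]
  · rw [Nat.card_zpowers, hc]
    exact card_centralizer_le h2 hnr

/-- Every element without eigenvalues is conjugate into the non-split torus. -/
theorem exists_conj_mem_nonsplit {c : SL2} {h : ℕ} (T : TorusGen c h) (hc : NoRoot (c : M2))
    {g : SL2} (hg : NoRoot (g : M2)) : ∃ n : SL2, n * g * n⁻¹ ∈ Subgroup.zpowers c := by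
  have h2 := T.two_ne
  set t := (c : M2).trace
  set u := (g : M2).trace
  have hF2 : ringChar F ≠ 2 := fun e => h2 (by
    have := ringChar.charP F; rw [e] at this; exact CharP.cast_eq_zero F 2)
  have ht : t ^ 2 - 4 ≠ 0 := sub_ne_zero.2 hc.trace_ne
  have hu : u ^ 2 - 4 ≠ 0 := sub_ne_zero.2 hg.trace_ne
  obtain ⟨s, hs⟩ : IsSquare ((u ^ 2 - 4) / (t ^ 2 - 4)) := by
    rw [FiniteField.isSquare_iff hF2 (div_ne_zero hu ht), div_pow]
    have a := (FiniteField.pow_dichotomy hF2 hu).resolve_left
      fun e => hg ((FiniteField.isSquare_iff hF2 hu).2 e)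
    have b := (FiniteField.pow_dichotomy hF2 ht).resolve_left
      fun e => hc ((FiniteField.isSquare_iff hF2 ht).2 e)
    rw [a, b]; norm_num
  rw [div_eq_iff ht] at hs
  have hdet : (((u - s * t) / 2) • (1 : M2) + s • (c : M2)).det = 1 := by
    rw [det_comb _ _ c.prop]
    show ((u - s * t) / 2) ^ 2 + ((u - s * t) / 2) * s * t + s ^ 2 = 1
    field_simp
    linear_combination hs
  let M : SL2 := ⟨_, hdet⟩
  have hMc : M * c = c * M := by
    refine Subtype.ext ?_
    rw [Matrix.SpecialLinearGroup.coe_mul, Matrix.SpecialLinearGroup.coe_mul]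
    show (((u - s * t) / 2) • (1 : M2) + s • (c : M2)) * c = _ * (((u - s * t) / 2) • (1 : M2) + s • (c : M2))
    simp [add_mul, mul_add]
  have htr : (M : M2).trace = u := by
    show (((u - s * t) / 2) • (1 : M2) + s • (c : M2)).trace = u
    rw [trace_comb]
    show 2 * ((u - s * t) / 2) + s * t = u
    field_simp; ring
  have hnsg : ∀ x : SL2, (x : M2).trace ^ 2 ≠ 4 → ∀ r : F, (x : M2) ≠ r • 1 := fun x hx r e =>
    hx (SpecLin.SLTwo.exists_trace_sq_iff e x.prop)
  obtain ⟨n, hn⟩ := isConj_iff.1 (SpecLin.SLTwo.isConj_of_trace_eq (M := g) (N := M) (Or.inr hg.trace_ne)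
    (hnsg g hg.trace_ne) (hnsg M (by rw [htr]; exact hg.trace_ne)) htr.symm)
  exact ⟨n, hn ▸ T.comm_mem hMc⟩

theorem diag_eq_slDiag {g : SL2} (h1 : (g : M2) 0 1 = 0) (h2 : (g : M2) 1 0 = 0) :
    ∃ a : Fˣ, g = slDiag a := by
  have hd : ((g : M2)).det = 1 := g.prop
  rw [Matrix.det_fin_two, h1, zero_mul, sub_zero] at hd
  have h0 : (g : M2) 0 0 ≠ 0 := left_ne_zero_of_mul_eq_one hd
  refine ⟨Units.mk0 _ h0, Subtype.ext ?_⟩
  rw [slDiag_coe]
  ext i j
  fin_cases i <;> fin_cases j <;> simp [h1, h2]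
  exact eq_inv_of_mul_eq_one_right hd

/-- A generator of the split torus. -/
theorem exists_split (hodd : Odd (Fintype.card F)) (h5 : 5 ≤ Fintype.card F) :
    ∃ (c : SL2) (h : ℕ), Fintype.card F - 1 = 2 * h ∧ TorusGen c h ∧
      ∀ g : SL2, g ∈ Subgroup.zpowers c ↔ (g : M2) 0 1 = 0 ∧ (g : M2) 1 0 = 0 := by
  have h2 := two_ne_of_odd hodd
  obtain ⟨m, hm⟩ := hodd
  obtain ⟨u, hu⟩ := IsCyclic.exists_generator (α := Fˣ)
  have hou : orderOf u = 2 * m := by
    rw [orderOf_eq_card_of_forall_mem_zpowers hu, Nat.card_units, Nat.card_eq_fintype_card]; omega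
  have hne : (u : F) ^ 2 ≠ 1 := fun e => by
    have := orderOf_le_of_pow_eq_one two_pos (show u ^ 2 = 1 from Units.ext (by simpa using e))
    omega
  have hiff : ∀ g : SL2, g ∈ Subgroup.zpowers (slDiag u) ↔ (g : M2) 0 1 = 0 ∧ (g : M2) 1 0 = 0 := by
    intro g
    constructor
    · intro hg
      obtain ⟨i, rfl⟩ := Subgroup.mem_zpowers_iff.1 hg
      rw [← map_zpow, slDiag_coe]
      simp
    · rintro ⟨a, b⟩
      obtain ⟨x, rfl⟩ := diag_eq_slDiag a b
      obtain ⟨i, rfl⟩ := Subgroup.mem_zpowers_iff.1 (hu x)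
      exact Subgroup.mem_zpowers_iff.2 ⟨i, (map_zpow _ _ _).symm⟩
  have hord : orderOf (slDiag u : SL2) = 2 * m := by rw [orderOf_injective _ slDiag_injective, hou]
  refine ⟨slDiag u, m, by omega, ⟨by omega, hord, h2, ?_, ?_, ?_⟩, hiff⟩
  · rw [slDiag_coe, Matrix.trace_fin_two]
    simp only [Matrix.of_apply, Matrix.cons_val', Matrix.cons_val_zero, Matrix.cons_val_one,
      Matrix.cons_val_fin_one, Units.val_inv_eq_inv_val]
    intro e
    apply hne
    have h0 : (u : F) ≠ 0 := u.ne_zero
    field_simp at e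
    have : ((u : F) ^ 2 - 1) ^ 2 = 0 := by linear_combination e
    exact sub_eq_zero.1 (pow_eq_zero_iff two_ne_zero |>.1 this)
  · intro g hg
    have e := coe_comm (Subgroup.mem_centralizer_singleton_iff.1 hg)
    rw [slDiag_coe] at e
    have e1 := congrFun (congrFun e 0) 1
    have e2 := congrFun (congrFun e 1) 0
    simp [Matrix.mul_apply] at e1 e2
    have h0 : (u : F) ≠ 0 := u.ne_zero
    have hd : (u : F) - (u : F)⁻¹ ≠ 0 := fun e => hne (by field_simp at e; linear_combination e)
    refine (hiff g).2 ⟨(mul_eq_zero.1 (show ((u : F) - (u : F)⁻¹) * (g : M2) 0 1 = 0 by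
      linear_combination -e1)).resolve_left hd, (mul_eq_zero.1 (show ((u : F) - (u : F)⁻¹) * (g : M2) 1 0 = 0 by
      linear_combination e2)).resolve_left hd⟩
  · let w : SL2 := ⟨!![0, 1; -1, 0], by simp [Matrix.det_fin_two]⟩
    refine ⟨w, ?_, ?_⟩
    · rw [mul_inv_eq_iff_eq_mul, ← map_inv]
      refine Subtype.ext ?_
      rw [Matrix.SpecialLinearGroup.coe_mul, Matrix.SpecialLinearGroup.coe_mul, slDiag_coe, slDiag_coe]
      show (!![0, 1; -1, 0] : M2) * _ = _ * (!![0, 1; -1, 0] : M2)
      ext i j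
      fin_cases i <;> fin_cases j <;> simp
    · have h1 : (slDiag (u ^ m) : SL2) ^ 2 = 1 := by
        rw [← map_pow, ← pow_mul, mul_comm, ← hou, pow_orderOf_eq_one, map_one]
      have h3 := (sq_eq_one_cases h2 h1).resolve_left fun e => by
        have := orderOf_le_of_pow_eq_one (show 0 < m by omega)
          (slDiag_injective ((eq_one_of_coe e).trans (map_one slDiag).symm))
        omega
      rw [← map_pow]
      refine Subtype.ext ?_
      rw [h3, Matrix.SpecialLinearGroup.coe_pow]
      show (!![0, 1; -1, 0] : M2) ^ 2 = -1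
      rw [pow_two]
      ext i j
      fin_cases i <;> fin_cases j <;> simp

end CfsgLib.SL2Tori
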